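import Groth.Agent.Lib.SchEffective.Engine
import Groth.Agent.Lib.AlgSp.AffineDescent
import Mathlib.AlgebraicGeometry.AffineScheme

/-!
# Effective descent of affine schemes along faithfully flat maps of affine schemes
-/

set_option autoImplicit false
set_option backward.isDefEq.respectTransparency false
set_option backward.isDefEq.respectTransparency.types false

universe u

open CategoryTheory CategoryTheory.Limits AlgebraicGeometry Desc TensorProduct

namespace GrothLib.SchEffective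

theorem schDD_φ_congr {X S : Scheme.{u}} {p : X ⟶ S} (D : SchDD p) {T : Scheme.{u}} {x₀ x₁ y₀ y₁ : T ⟶ X}
    (h₀ : x₀ = y₀) (h₁ : x₁ = y₁) (h : x₀ ≫ p = x₁ ≫ p) (h' : y₀ ≫ p = y₁ ≫ p)
    {v : Lifts D.obj x₀} {v' : Lifts D.obj y₀} (hv : v.1 = v'.1) : (D.φ x₀ x₁ h v).1 = (D.φ y₀ y₁ h' v').1 := by
  subst h₀ h₁; rw [Subtype.ext hv]

theorem schDD_natural {X S : Scheme.{u}} {p : X ⟶ S} (D : SchDD p) {T T' : Scheme.{u}} (k : T' ⟶ T)
    {x₀ x₁ : T ⟶ X} {y₀ y₁ : T' ⟶ X} (hy₀ : k ≫ x₀ = y₀) (hy₁ : k ≫ x₁ = y₁) (h : x₀ ≫ p = x₁ ≫ p)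
    (h' : y₀ ≫ p = y₁ ≫ p) (v : Lifts D.obj x₀) (v' : Lifts D.obj y₀) (hv : v'.1 = k ≫ v.1) :
    (D.φ y₀ y₁ h' v').1 = k ≫ (D.φ x₀ x₁ h v).1 := by
  subst hy₀ hy₁; exact D.φ_natural k x₀ x₁ h h' v v' hv

/-- A datum whose scheme is a base change by an invariant map is effective. -/
theorem effective_of_isPullback {X S : Scheme.{u}} {p : X ⟶ S} (D : SchDD p) (U : Over S)
    (e : D.obj.left ⟶ U.left) (sq : IsPullback D.obj.hom e p U.hom)
    (inv : ∀ ⦃T : Scheme.{u}⦄ (x₀ x₁ : T ⟶ X) (h : x₀ ≫ p = x₁ ≫ p) (v : Lifts D.obj x₀),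
      (D.φ x₀ x₁ h v).1 ≫ e = v.1 ≫ e) : Nonempty ((toDD p).obj U ≅ D) := by
  let i : ((toDD p).obj U).obj ≅ D.obj := Over.isoMk sq.isoPullback.symm sq.isoPullback_inv_fst
  refine ⟨{ hom := ⟨i.hom, fun T x₀ x₁ h v w hw => ?_⟩, inv := ⟨i.inv, fun T x₀ x₁ h v w hw => ?_⟩,
            hom_inv_id := SchDD.Hom.ext i.hom_inv_id, inv_hom_id := SchDD.Hom.ext i.inv_hom_id }⟩
  · change (D.φ x₀ x₁ h w).1 = (canMap p U x₀ x₁ h v).1 ≫ sq.isoPullback.inv
    apply sq.hom_ext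
    · rw [Category.assoc, sq.isoPullback_inv_fst, (D.φ x₀ x₁ h w).2]
      exact (canMap p U x₀ x₁ h v).2.symm
    · rw [inv, hw, Category.assoc, Category.assoc]
      refine Eq.trans ?_ (congrArg ((canMap p U x₀ x₁ h v).1 ≫ ·) sq.isoPullback_inv_snd.symm)
      refine Eq.trans ?_ (pullback.lift_snd _ _ _).symm
      exact congrArg (v.1 ≫ ·) sq.isoPullback_inv_snd
  · change (canMap p U x₀ x₁ h w).1 = (D.φ x₀ x₁ h v).1 ≫ sq.isoPullback.hom
    apply pullback.hom_ext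
    · rw [Category.assoc, sq.isoPullback_hom_fst, (D.φ x₀ x₁ h v).2]
      exact (canMap p U x₀ x₁ h w).2
    · rw [Category.assoc, sq.isoPullback_hom_snd, inv]
      refine (pullback.lift_snd _ _ _).trans ?_
      exact (congrArg (· ≫ pullback.snd p U.hom) hw).trans
        ((Category.assoc _ _ _).trans (congrArg (v.1 ≫ ·) sq.isoPullback_hom_snd))

open Algebra.TensorProduct (includeLeft includeRight productMap)

/-- Affine schemes descend along faithfully flat maps of affine schemes. -/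
theorem exists_descent_of_affine {X S : Scheme.{u}} (p : X ⟶ S) [IsAffine X] [IsAffine S] [Flat p]
    (D : SchDD p) [IsAffine D.obj.left] :
    ∃ (U : Over S) (e : D.obj.left ⟶ U.left), IsAffine U.left ∧ IsPullback D.obj.hom e p U.hom ∧
      ∀ ⦃T : Scheme.{u}⦄ (x₀ x₁ : T ⟶ X) (h : x₀ ≫ p = x₁ ≫ p) (v : Lifts D.obj x₀),
        (D.φ x₀ x₁ h v).1 ≫ e = v.1 ≫ e := by
  set Z := D.obj.left with hZ
  set h := D.obj.hom with hh
  let A := Γ(S, ⊤); let B := Γ(X, ⊤); let C := Γ(Z, ⊤)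
  let φ : A ⟶ B := p.appTop
  let χ : B ⟶ C := h.appTop
  let _ : Algebra A B := φ.hom.toAlgebra
  let _ : Algebra A C := (φ ≫ χ).hom.toAlgebra
  let β : B →ₐ[A] C := { χ.hom with commutes' := fun _ => rfl }
  have hflat : Module.Flat A B := p.flat_appTop
  let ι : C →ₐ[A] C ⊗[A] B := includeLeft
  let p₁ : Spec (.of (C ⊗[A] B)) ⟶ Z := Spec.map (CommRingCat.ofHom ι.toRingHom) ≫ Z.isoSpec.inv
  let p₂ : Spec (.of (C ⊗[A] B)) ⟶ X :=
    Spec.map (CommRingCat.ofHom (includeRight : B →ₐ[A] C ⊗[A] B).toRingHom) ≫ X.isoSpec.inv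
  have sqS : IsPullback p₁ p₂ (h ≫ p) p := by
    refine (isPullback_SpecMap_of_isPushout _ _ _ _ (CommRingCat.isPushout_tensorProduct A C B)).of_iso
      (Iso.refl _) Z.isoSpec.symm X.isoSpec.symm S.isoSpec.symm (by simp [p₁, ι]; rfl) (by simp [p₂]) ?_ ?_
    · change Spec.map (φ ≫ χ) ≫ S.isoSpec.inv = Z.isoSpec.inv ≫ h ≫ p
      rw [← Scheme.isoSpec_inv_naturality_assoc h, ← Scheme.isoSpec_inv_naturality p, ← Category.assoc,
        ← Spec.map_comp]
    · exact Scheme.isoSpec_inv_naturality p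
  have hxy : (p₁ ≫ h) ≫ p = p₂ ≫ p := by rw [Category.assoc]; exact sqS.w
  let q : Lifts D.obj p₂ := D.φ (p₁ ≫ h) p₂ hxy ⟨p₁, rfl⟩
  have inv : ∀ ⦃T : Scheme.{u}⦄ (x₀ x₁ : T ⟶ X) (hx : x₀ ≫ p = x₁ ≫ p) (v : Lifts D.obj x₀),
      ∃ l : T ⟶ Spec (.of (C ⊗[A] B)), l ≫ p₁ = v.1 ∧ l ≫ p₂ = x₁ ∧ (D.φ x₀ x₁ hx v).1 = l ≫ q.1 := by
    intro T x₀ x₁ hx v
    have hv : v.1 ≫ h ≫ p = x₁ ≫ p := by rw [← Category.assoc]; exact (congrArg (· ≫ p) v.2).trans hx
    refine ⟨sqS.lift v.1 x₁ hv, sqS.lift_fst _ _ hv, sqS.lift_snd _ _ hv, ?_⟩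
    exact schDD_natural D _ ((Category.assoc _ _ _).symm.trans ((congrArg (· ≫ h) (sqS.lift_fst _ _ hv)).trans v.2))
      (sqS.lift_snd _ _ hv) hxy hx ⟨p₁, rfl⟩ v (sqS.lift_fst _ _ hv).symm
  obtain ⟨θ₀, hθ₀⟩ : ∃ θ₀ : C ⟶ .of (C ⊗[A] B), Spec.map θ₀ = q.1 ≫ Z.isoSpec.hom := Spec.map_surjective _
  have hq : q.1 = Spec.map θ₀ ≫ Z.isoSpec.inv := by rw [hθ₀, Category.assoc, Iso.hom_inv_id, Category.comp_id]
  have hβ : χ ≫ θ₀ = CommRingCat.ofHom (includeRight : B →ₐ[A] C ⊗[A] B).toRingHom := by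
    refine Spec.map_injective ((cancel_mono X.isoSpec.inv).1 ?_)
    rw [Spec.map_comp, Category.assoc, Scheme.isoSpec_inv_naturality h, ← Category.assoc, ← hq]
    exact q.2
  let θ : C →ₐ[A] C ⊗[A] B := { θ₀.hom with commutes' := fun r =>
    (ConcreteCategory.congr_hom hβ (φ r)).trans (Algebra.TensorProduct.includeRight.commutes r) }
  have hβ' : ∀ b, θ (β b) = (1 : C) ⊗ₜ b := fun b => ConcreteCategory.congr_hom hβ b
  -- the counit
  have hu : (productMap (AlgHom.id A C) β).comp θ = AlgHom.id A C := by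
    let s := Spec.map (CommRingCat.ofHom (productMap (AlgHom.id A C) β).toRingHom)
    have hs₁ : s ≫ p₁ = Z.isoSpec.inv := by
      rw [← Category.assoc, ← Spec.map_comp, show CommRingCat.ofHom ι.toRingHom ≫ CommRingCat.ofHom
        (productMap (AlgHom.id A C) β).toRingHom = 𝟙 C from
          CommRingCat.hom_ext (RingHom.ext fun x => by simp [ι]; rfl)]
      exact (congrArg (· ≫ Z.isoSpec.inv) (Spec.map_id C)).trans (Category.id_comp _)
    have hs₂ : s ≫ p₂ = Z.isoSpec.inv ≫ h := by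
      rw [← Category.assoc, ← Spec.map_comp, show CommRingCat.ofHom (includeRight : B →ₐ[A] C ⊗[A] B).toRingHom ≫
          CommRingCat.ofHom (productMap (AlgHom.id A C) β).toRingHom = χ from
          CommRingCat.hom_ext (RingHom.ext fun x => by simp [β]), Scheme.isoSpec_inv_naturality]
    have hsq : s ≫ q.1 = Z.isoSpec.inv := by
      have := schDD_natural D s (y₀ := Z.isoSpec.inv ≫ h) (y₁ := Z.isoSpec.inv ≫ h)
        (by rw [← Category.assoc, hs₁]) hs₂ hxy rfl ⟨p₁, rfl⟩ ⟨Z.isoSpec.inv, rfl⟩ hs₁.symm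
      rw [D.φ_self] at this
      exact this.symm
    rw [hq, ← Category.assoc, ← Spec.map_comp, Iso.comp_inv_eq, Iso.inv_hom_id, ← Spec.map_id] at hsq
    exact AlgHom.ext fun x => ConcreteCategory.congr_hom (Spec.map_injective hsq) x
  -- the cocycle condition
  have hc : (Algebra.TensorProduct.map θ (AlgHom.id A B)).comp θ =
      (Algebra.TensorProduct.map ι (AlgHom.id A B)).comp θ := by
    let E := (C ⊗[A] B) ⊗[A] B
    let r : Spec (.of E) ⟶ Spec (.of (C ⊗[A] B)) :=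
      Spec.map (CommRingCat.ofHom (includeLeft : C ⊗[A] B →ₐ[A] E).toRingHom)
    let z : Spec (.of E) ⟶ X := Spec.map (CommRingCat.ofHom (includeRight : B →ₐ[A] E).toRingHom) ≫ X.isoSpec.inv
    have mk : ∀ (f : C →ₐ[A] C ⊗[A] B),
        Spec.map (CommRingCat.ofHom (Algebra.TensorProduct.map f (AlgHom.id A B)).toRingHom) ≫ p₁ =
          r ≫ Spec.map (CommRingCat.ofHom f.toRingHom) ≫ Z.isoSpec.inv ∧
        Spec.map (CommRingCat.ofHom (Algebra.TensorProduct.map f (AlgHom.id A B)).toRingHom) ≫ p₂ = z := by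
      intro f
      refine ⟨?_, ?_⟩
      · rw [← Category.assoc, ← Category.assoc r, ← Spec.map_comp, ← Spec.map_comp]
        congr 2
      · rw [← Category.assoc, ← Spec.map_comp]
        congr 2
        exact CommRingCat.hom_ext (RingHom.ext fun x => by simp [E])
    obtain ⟨h₁, h₁'⟩ := mk θ
    obtain ⟨h₂, h₂'⟩ := mk ι
    set G₁ := Spec.map (CommRingCat.ofHom (Algebra.TensorProduct.map θ (AlgHom.id A B)).toRingHom)
    set G₂ := Spec.map (CommRingCat.ofHom (Algebra.TensorProduct.map ι (AlgHom.id A B)).toRingHom)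
    have h₁q : G₁ ≫ p₁ = r ≫ q.1 := by rw [h₁, hq]; rfl
    have h₂q : G₂ ≫ p₁ = r ≫ p₁ := h₂
    have e₀ : (r ≫ p₁ ≫ h) ≫ p = (r ≫ p₂) ≫ p := by
      rw [Category.assoc, Category.assoc r p₂, Category.assoc p₁, sqS.w]
    have e₁ : (r ≫ p₂) ≫ p = z ≫ p := by
      have e := congrArg (G₁ ≫ ·) hxy
      simp only [← Category.assoc, h₁'] at e
      rw [h₁q, Category.assoc r q.1 h] at e
      rw [← e, show q.1 ≫ h = p₂ from q.2]
    have eG₂ := schDD_natural D G₂ (y₀ := r ≫ p₁ ≫ h) (y₁ := z) (by rw [← Category.assoc, h₂q, Category.assoc]) h₂'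
      hxy (e₀.trans e₁) ⟨p₁, rfl⟩ ⟨r ≫ p₁, Category.assoc _ _ _⟩ h₂q.symm
    have eG₁ := schDD_natural D G₁ (y₀ := r ≫ p₂) (y₁ := z)
      (by rw [← Category.assoc, h₁q, Category.assoc]; exact congrArg (r ≫ ·) q.2) h₁'
      hxy e₁ ⟨p₁, rfl⟩ ⟨r ≫ q.1, (Category.assoc _ _ _).trans (congrArg (r ≫ ·) q.2)⟩ h₁q.symm
    have er := schDD_natural D r (y₀ := r ≫ p₁ ≫ h) (y₁ := r ≫ p₂) rfl rfl
      hxy e₀ ⟨p₁, rfl⟩ ⟨r ≫ p₁, Category.assoc _ _ _⟩ rfl
    have hG : G₁ ≫ q.1 = G₂ ≫ q.1 := by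
      refine eG₁.symm.trans (Eq.trans ?_ eG₂)
      rw [← D.φ_comp (r ≫ p₁ ≫ h) (r ≫ p₂) z e₀ e₁]
      exact schDD_φ_congr D rfl rfl _ _ er.symm
    rw [hq, ← Category.assoc, ← Category.assoc, cancel_mono, ← Spec.map_comp, ← Spec.map_comp] at hG
    exact AlgHom.ext fun x => ConcreteCategory.congr_hom (Spec.map_injective hG) x
  -- the descended algebra
  have hbij := GrothLib.AlgSp.bijective_productMap_equalizer β θ hβ' hc hu
  let C₀ := AlgHom.equalizer θ ι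
  let w : Spec (.of C₀) ⟶ S := Spec.map (CommRingCat.ofHom (algebraMap A C₀)) ≫ S.isoSpec.inv
  let e : Z ⟶ Spec (.of C₀) := Z.isoSpec.hom ≫ Spec.map (CommRingCat.ofHom C₀.val.toRingHom)
  have sqP : IsPushout (CommRingCat.ofHom (algebraMap A C₀)) φ (CommRingCat.ofHom C₀.val.toRingHom) χ :=
    (CommRingCat.isPushout_tensorProduct A C₀ B).of_iso (Iso.refl _) (Iso.refl _) (Iso.refl _)
      (RingEquiv.ofBijective (productMap C₀.val β).toRingHom hbij).toCommRingCatIso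
      (by simp) (by simp; rfl)
      (CommRingCat.hom_ext (RingHom.ext fun x => by simp))
      (CommRingCat.hom_ext (RingHom.ext fun x => by simp [β]))
  have sq₀ : IsPullback h e p w := by
    refine ((isPullback_SpecMap_of_isPushout _ _ _ _ sqP).flip).of_iso
      Z.isoSpec.symm X.isoSpec.symm (Iso.refl _) S.isoSpec.symm ?_ ?_ ?_ ?_
    · exact Scheme.isoSpec_inv_naturality h
    · simp [e]
    · exact Scheme.isoSpec_inv_naturality p
    · simp [w]
  refine ⟨Over.mk w, e, isAffine_Spec _, sq₀, fun T x₀ x₁ hx v => ?_⟩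
  obtain ⟨l, hl₁, -, hl⟩ := inv x₀ x₁ hx v
  rw [hl, ← hl₁, Category.assoc, Category.assoc]
  congr 1
  change q.1 ≫ Z.isoSpec.hom ≫ Spec.map _ = p₁ ≫ Z.isoSpec.hom ≫ Spec.map _
  rw [← Category.assoc, ← hθ₀]
  simp only [p₁, Category.assoc, Iso.inv_hom_id_assoc]
  rw [← Spec.map_comp, ← Spec.map_comp]
  congr 1
  exact CommRingCat.hom_ext (RingHom.ext fun x => x.2)

/-- The square of a map of disjoint unions at one member is Cartesian. -/
theorem isPullback_sigmaMap {σ : Type} [Finite σ] {Y V : σ → Scheme.{u}} (q : ∀ j, Y j ⟶ V j) (j : σ) :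
    IsPullback (q j) (Sigma.ι Y j) (Sigma.ι V j) (Limits.Sigma.map q) := by
  refine IsOpenImmersion.isPullback _ _ _ _ (Sigma.ι_map q j) (TopologicalSpace.Opens.ext (Set.ext fun z => ?_))
  refine ⟨fun ⟨v, hv⟩ => ?_, fun ⟨y, hy⟩ => ⟨q j y, ?_⟩⟩
  · obtain ⟨k, y, rfl⟩ := (sigmaOpenCover Y).exists_eq z
    have e : (Sigma.ι V j) v = (Sigma.ι V k) (q k y) := by
      rw [← Scheme.Hom.comp_apply, ← Sigma.ι_map q k, Scheme.Hom.comp_apply]
      exact hv
    by_cases hjk : j = k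
    · subst hjk; exact ⟨y, rfl⟩
    · exact ((disjoint_opensRange_sigmaι V j k hjk).le_bot ⟨⟨v, rfl⟩, ⟨q k y, e.symm⟩⟩).elim
  · rw [← hy, ← Scheme.Hom.comp_apply, ← Scheme.Hom.comp_apply, Sigma.ι_map]

/-- A property local on the target passes to maps of disjoint unions. -/
theorem sigmaMap_mem (P : MorphismProperty Scheme.{u}) [IsZariskiLocalAtTarget P] {σ : Type} [Finite σ]
    {Y V : σ → Scheme.{u}} (q : ∀ j, Y j ⟶ V j) (hq : ∀ j, P (q j)) : P (Limits.Sigma.map q) := by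
  refine IsZariskiLocalAtTarget.of_openCover (𝒰 := sigmaOpenCover V) fun j => ?_
  have sq := isPullback_sigmaMap q j
  exact (P.arrow_mk_iso_iff (Arrow.isoMk (f := Arrow.mk (q j)) (g := Arrow.mk _) sq.flip.isoPullback (Iso.refl _)
    (by simp [Scheme.Cover.pullbackHom]; exact sq.flip.isoPullback_hom_snd))).1 (hq j)

/-- Effectivity for affine morphisms, along fpqc coverings. -/
theorem isEffective_of_isAffineHom {ι : Type u} {S : Scheme.{u}} {U : ι → Scheme.{u}} (u : ∀ i, U i ⟶ S)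
    (hu : Presieve.ofArrows U u ∈ Scheme.fpqcPrecoverage S) (D : SchDDFam u)
    (hD : ∀ i, IsAffineHom (D.obj i).hom) : D.IsEffective := by
  refine isEffective_of_affine_case @IsAffineHom (fun m Y V q hq => sigmaMap_mem _ q hq)
    (fun X S p hX hS hp _ D hD => ?_) u hu D hD
  · haveI : IsAffine D.obj.left := isAffine_of_isAffineHom D.obj.hom
    obtain ⟨U', e, -, sq, inv⟩ := exists_descent_of_affine p D
    exact ⟨U', effective_of_isPullback D U' e sq inv⟩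

end GrothLib.SchEffective
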