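import Groth.Agent.Lib.SchEffective.FinLocFree
import Groth.Agent.Lib.FpqcCov.Basic

/-!
# Effective fppf descent of ind-quasi-affine morphisms
-/

set_option autoImplicit false
set_option backward.isDefEq.respectTransparency false
set_option backward.isDefEq.respectTransparency.types false

universe u

open CategoryTheory CategoryTheory.Limits AlgebraicGeometry Desc

namespace GrothLib.SchEffective

/-- The case of affine schemes. -/
theorem isRep_of_indQA_affine {X Y : Scheme.{u}} (p : X ⟶ Y) [IsAffine X] [IsAffine Y] [Surjective p] [Flat p]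
    [LocallyOfFinitePresentation p] (D : SchDD p) (h : MoreMor.IsIndQuasiAffineHom D.obj.hom) :
    IsRep ((SchDDFam.ofSchDD p).obj D) := by
  haveI : IsAffineHom (relTgt D) := relTgt_mem D @IsAffineHom (isAffineHom_of_isAffine p)
  haveI : LocallyOfFinitePresentation (relSrc D) :=
    MorphismProperty.pullback_fst (P := @LocallyOfFinitePresentation) _ _ inferInstance
  haveI : Flat (relSrc D) := inferInstance
  have hp' : Presieve.ofArrows (fun _ : PUnit.{u + 1} => X) (fun _ => p) ∈ Scheme.fpqcPrecoverage Y := by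
    rw [Presieve.ofArrows_pUnit]
    exact Scheme.Hom.singleton_mem_fpqcPrecoverage p
  have key : ∀ v : D.obj.left, ∃ (D' : SchDD p) (j : D' ⟶ D), IsOpenImmersion j.hom.left ∧
      v ∈ Set.range j.hom.left ∧ IsRep ((SchDDFam.ofSchDD p).obj D') := by
    intro v
    obtain ⟨_, ⟨U₀, hU₀, rfl⟩, hvU₀, -⟩ :=
      D.obj.left.isBasis_affineOpens.exists_subset_of_mem_open (Set.mem_univ v) isOpen_univ
    let U₁ : D.obj.left.Opens := ⟨satHull D (U₀ : Set D.obj.left),
      (relSrc D).isOpenMap _ (U₀.2.preimage (relTgt D).continuous)⟩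
    have hU₁c : IsCompact (U₁ : Set D.obj.left) :=
      ((relTgt D).isCompact_preimage hU₀.isCompact).image (relSrc D).continuous
    obtain ⟨D', j, hj, hjr, -, ⟨e⟩⟩ := exists_restrict D U₁ (isSaturated_satHull D _)
    refine ⟨D', j, hj, hjr ▸ subset_satHull D _ hvU₀, ?_⟩
    haveI : Scheme.IsQuasiAffine (U₁ : Scheme.{u}) :=
      (IndQA.indQA_iff _).mp h ⊤ (isAffineOpen_top X) U₁ le_top hU₁c
    have hqa : qcQA (U₁.ι ≫ D.obj.hom) := by
      refine ⟨(HasAffineProperty.iff_of_isAffine (P := @QuasiCompact)).mpr inferInstance,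
        (IndQA.indQA_iff _).mpr fun V hV U hle hU => ?_⟩
      exact IndQA.qa_mono ((IndQA.qa_top_iff _).mpr inferInstance) hU le_top
    have hqa' : qcQA D'.obj.hom :=
      (qcQA.arrow_mk_iso_iff (Arrow.isoMk ((Over.forget X).mapIso e) (Iso.refl X) (by
        dsimp; rw [Category.comp_id]; exact Over.w e.hom))).2 hqa
    exact isRep_of_isEffective (DDFull.ofArrows_mem hp') (isEffective_of_qcQA _ hp' _ fun _ => hqa')
  choose D' j hj hv hrep using key
  exact isRep_of_openSubData p (fun v => (SchDDFam.ofSchDD p).obj (D' v))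
    (fun v => (SchDDFam.ofSchDD p).map (j v)) hj (fun v => ⟨v, hv v⟩) hrep

/-- Ind-quasi-affine morphisms descend along fppf covers. -/
theorem exists_descent_of_indQA {X S : Scheme.{u}} (p : X ⟶ S) [Flat p] [Surjective p]
    [LocallyOfFinitePresentation p] (D : SchDD p) (h : MoreMor.IsIndQuasiAffineHom D.obj.hom) :
    ∃ U : Over S, Nonempty ((toDD p).obj U ≅ D) := by
  have hp' : Presieve.ofArrows (fun _ : PUnit.{u + 1} => X) (fun _ => p) ∈ Scheme.fpqcPrecoverage S := by
    rw [Presieve.ofArrows_pUnit]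
    exact Scheme.fppfPrecoverage_le_fpqcPrecoverage S (Scheme.Hom.singleton_mem_fppfPrecoverage p)
  obtain ⟨hqc, hflat, -⟩ := FpqcCov.quasiCompactCover_and_flat _ hp'
  have hrep : IsRep ((SchDDFam.ofSchDD p).obj D) := by
    refine isRep_of_openCover (fun W : S.affineOpens => W.1)
      (TopologicalSpace.IsOpenCover.mk (iSup_affineOpens_eq_top S)) fun W => ?_
    haveI : IsAffine (W.1 : Scheme.{u}) := W.2
    obtain ⟨n, idx, Z, b, hb, hZ, h₁, h₂, h₃⟩ :=
      FpqcCov.exists_affine_refinement (PreZeroHypercover.mk PUnit.{u + 1} (fun _ => X) (fun _ => p)) hflat W.1.ι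
    let g : ∀ j, Z j ⟶ W.1 := fun j => b j ≫ pullback.fst W.1.ι p
    let p₁ : ∐ Z ⟶ W.1 := Sigma.desc g
    let p' : ∐ Z ⟶ X := Sigma.desc fun j => b j ≫ pullback.snd W.1.ι p
    haveI : Flat p₁ := h₁
    haveI : Surjective p₁ := h₂
    haveI : QuasiCompact p₁ := h₃
    haveI : IsAffine (∐ Z) := hZ
    haveI : LocallyOfFinitePresentation p₁ := IsZariskiLocalAtSource.sigmaDesc fun j => by
      haveI := hb j
      haveI : LocallyOfFinitePresentation (pullback.fst W.1.ι p) :=
        MorphismProperty.pullback_fst (P := @LocallyOfFinitePresentation) _ _ inferInstance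
      infer_instance
    have w : p' ≫ p = p₁ ≫ W.1.ι := Sigma.hom_ext _ _ fun j => by
      simp only [p', p₁, g, Sigma.ι_desc_assoc, Category.assoc, pullback.condition]
    have hcov : Sieve.ofArrows (fun _ : PUnit.{u + 1} => ∐ Z) (fun _ => p₁) ∈
        Scheme.fpqcTopology (W.1 : Scheme.{u}) := by
      refine DDFull.ofArrows_mem ?_
      rw [Presieve.ofArrows_pUnit]
      exact Scheme.Hom.singleton_mem_fpqcPrecoverage p₁
    refine (isRep_pull_iff (f' := fun _ : PUnit.{u + 1} => p₁) (α := fun _ => PUnit.unit) (p' := fun _ => p')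
      (fun _ => w) hcov).1 ?_
    exact isRep_of_indQA_affine p₁ ((SchDDFam.toSchDD p₁).obj (pullDDFamObj (f := fun _ : PUnit.{u + 1} => p)
      (f' := fun _ : PUnit.{u + 1} => p₁) (α := fun _ => PUnit.unit) (p := W.1.ι) (p' := fun _ => p') (fun _ => w)
      ((SchDDFam.ofSchDD p).obj D))) (IndQA.indQA_baseChange _ _ _ _ (IsPullback.of_hasPullback D.obj.hom p') h)
  obtain ⟨U, ⟨e⟩⟩ := isEffective_of_isRep hrep
  exact ⟨U, ⟨(SchDDFam.toSchDD p).mapIso e⟩⟩

end GrothLib.SchEffective
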