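import Groth.Prelude.Def_CohB1
import Groth.Agent.Lib.Ample.Criterion
import Groth.Agent.Lib.Ample.Finite

/-!
# Finite sets lie in affine opens in presence of an ample module
-/

set_option autoImplicit false

universe u

open CategoryTheory AlgebraicGeometry

namespace GrothLib.SchEffective

theorem exists_affineOpen_finset {X : Scheme.{u}} {L : X.Modules} (h : CohB1.IsAmple L) (s : Finset X) :
    ∃ A : X.Opens, IsAffineOpen A ∧ ∀ v ∈ s, v ∈ A := by
  haveI := h.2.1
  obtain ⟨c, ⟨e⟩⟩ := GrothLib.Ample.exists_cocycle h.1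
  obtain ⟨n, a, h1, -, h3⟩ := c.exists_affine_locus_finite ((c.isAmple_iff e).mp h).2 s.finite_toSet
    (U := ⊤) (fun _ _ => trivial)
  exact ⟨c.locus a, h3, fun v hv => h1 hv⟩

end GrothLib.SchEffective
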