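import Groth.Agent.Lib.AlgSp.QuasiAffineDescent
import Mathlib.RingTheory.Flat.Basic

/-!
# Sections of a flat affine base change killed by natural conditions
-/

set_option autoImplicit false
set_option backward.isDefEq.respectTransparency false
set_option backward.isDefEq.respectTransparency.types false

universe u

open CategoryTheory CategoryTheory.Limits AlgebraicGeometry TensorProduct

namespace GrothLib.SchEffective

open Algebra.TensorProduct (includeLeft includeRight)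
open GrothLib.AlgSp (gammaMap gammaMap_comp_SpecMap isPushout_gammaMap)

theorem gammaMap_isoSpec {S T : Scheme.{u}} [IsAffine S] (k : T ⟶ S) :
    gammaMap (k ≫ S.isoSpec.hom) = k.appTop := by
  simp [gammaMap, Scheme.Hom.comp_appTop, Scheme.isoSpec]

/-- Flat base change for global sections over affine schemes. -/
theorem isPushout_appTop {X S T : Scheme.{u}} [IsAffine X] [IsAffine S] [CompactSpace T] [QuasiSeparatedSpace T]
    (p : X ⟶ S) [Flat p] (k : T ⟶ S) :
    IsPushout k.appTop p.appTop (pullback.fst k p).appTop (pullback.snd k p).appTop := by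
  have hp : X.isoSpec.hom ≫ Spec.map p.appTop = p ≫ S.isoSpec.hom := Scheme.isoSpec_hom_naturality p
  haveI : Flat (Spec.map p.appTop) := by
    rw [← (Iso.inv_comp_eq _).2 hp.symm]; infer_instance
  have sq : IsPullback (pullback.fst k p) (pullback.snd k p ≫ X.isoSpec.hom) (k ≫ S.isoSpec.hom)
      (Spec.map p.appTop) :=
    (IsPullback.of_hasPullback k p).of_iso (Iso.refl _) (Iso.refl _) X.isoSpec S.isoSpec (by simp) (by simp)
      (by simp) hp.symm
  have h := isPushout_gammaMap p.appTop sq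
  rwa [gammaMap_isoSpec, gammaMap_isoSpec] at h

/-- An element of a flat base change killed by base changed conditions comes from elements satisfying them. -/
theorem exists_mem_ker_of_flat {A B C C₁ C₂ Q Q₁ Q₂ κ : CommRingCat.{u}} {φ : A ⟶ B} (hφ : φ.hom.Flat)
    {k : A ⟶ C} {k₁ : A ⟶ C₁} {k₂ : A ⟶ C₂} {ι : C ⟶ Q} {ρ : B ⟶ Q} {ι₁ : C₁ ⟶ Q₁} {ρ₁ : B ⟶ Q₁}
    {ι₂ : C₂ ⟶ Q₂} {ρ₂ : B ⟶ Q₂} (po : IsPushout k φ ι ρ) (po₁ : IsPushout k₁ φ ι₁ ρ₁)
    (po₂ : IsPushout k₂ φ ι₂ ρ₂) (a b : C ⟶ C₁) (r : C ⟶ C₂) (ha : k ≫ a = k₁) (hb : k ≫ b = k₁)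
    (hr : k ≫ r = k₂) (aQ bQ : Q ⟶ Q₁) (rQ : Q ⟶ Q₂)
    (haι : ι ≫ aQ = a ≫ ι₁) (haρ : ρ ≫ aQ = ρ₁) (hbι : ι ≫ bQ = b ≫ ι₁) (hbρ : ρ ≫ bQ = ρ₁)
    (hrι : ι ≫ rQ = r ≫ ι₂) (hrρ : ρ ≫ rQ = ρ₂) (x : Q) (hab : aQ x = bQ x) (hrx : rQ x = 0)
    (χ : Q ⟶ κ) (hx : χ x ≠ 0) : ∃ g : C, a g = b g ∧ r g = 0 ∧ χ (ι g) ≠ 0 := by
  by_contra hcon
  push Not at hcon
  let _ : Algebra A B := φ.hom.toAlgebra
  let _ : Algebra A C := k.hom.toAlgebra
  let _ : Algebra A C₁ := k₁.hom.toAlgebra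
  let _ : Algebra A C₂ := k₂.hom.toAlgebra
  haveI : Module.Flat A B := hφ
  let a' : C →ₐ[A] C₁ := { a.hom with commutes' := fun t => ConcreteCategory.congr_hom ha t }
  let b' : C →ₐ[A] C₁ := { b.hom with commutes' := fun t => ConcreteCategory.congr_hom hb t }
  let r' : C →ₐ[A] C₂ := { r.hom with commutes' := fun t => ConcreteCategory.congr_hom hr t }
  let e := po.isoIsPushout _ _ (CommRingCat.isPushout_tensorProduct A C B)
  let e₁ := po₁.isoIsPushout _ _ (CommRingCat.isPushout_tensorProduct A C₁ B)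
  let e₂ := po₂.isoIsPushout _ _ (CommRingCat.isPushout_tensorProduct A C₂ B)
  have tens : ∀ {C' : CommRingCat.{u}} [Algebra A C'] (d : C →ₐ[A] C') {Q' : CommRingCat.{u}}
      {ι' : C' ⟶ Q'} {ρ' : B ⟶ Q'} (dQ : Q ⟶ Q') (e' : Q' ≅ CommRingCat.of (C' ⊗[A] B)),
      ι' ≫ e'.hom = CommRingCat.ofHom (includeLeft : C' →ₐ[A] C' ⊗[A] B).toRingHom →
      ρ' ≫ e'.hom = CommRingCat.ofHom (includeRight : B →ₐ[A] C' ⊗[A] B).toRingHom →
      ι ≫ dQ = CommRingCat.ofHom d.toRingHom ≫ ι' → ρ ≫ dQ = ρ' →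
      e'.hom (dQ x) = d.toLinearMap.rTensor B (e.hom x) := by
    intro C' _ d Q' ι' ρ' dQ e' he₁ he₂ hd₁ hd₂
    have key : dQ ≫ e'.hom = e.hom ≫ CommRingCat.ofHom (Algebra.TensorProduct.map d (AlgHom.id A B)).toRingHom := by
      refine po.hom_ext ?_ ?_
      · rw [reassoc_of% hd₁, he₁, IsPushout.inl_isoIsPushout_hom_assoc]
        exact CommRingCat.hom_ext (RingHom.ext fun y => by simp)
      · rw [reassoc_of% hd₂, he₂, IsPushout.inr_isoIsPushout_hom_assoc]
        exact CommRingCat.hom_ext (RingHom.ext fun y => by simp)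
    exact ConcreteCategory.congr_hom key x
  have hxa := tens a' aQ e₁ (by simp [e₁]; rfl) (by simp [e₁]) haι haρ
  have hxb := tens b' bQ e₁ (by simp [e₁]; rfl) (by simp [e₁]) hbι hbρ
  have hxr := tens r' rQ e₂ (by simp [e₂]; rfl) (by simp [e₂]) hrι hrρ
  let L : C →ₗ[A] C₁ × C₂ := (a'.toLinearMap - b'.toLinearMap).prod r'.toLinearMap
  have hL : L.rTensor B (e.hom x) = 0 := by
    have hp : ∀ y : (C : Type u) ⊗[A] B, TensorProduct.prodLeft A A C₁ C₂ B (L.rTensor B y) =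
        (a'.toLinearMap.rTensor B y - b'.toLinearMap.rTensor B y, r'.toLinearMap.rTensor B y) := by
      intro y
      induction y using TensorProduct.induction_on with
      | zero => simp only [map_zero, sub_self]; rfl
      | tmul c d => simp [L, TensorProduct.sub_tmul]
      | add y z hy hz => simp only [map_add, hy, hz, Prod.mk_add_mk, add_sub_add_comm]
    apply (TensorProduct.prodLeft A A C₁ C₂ B).injective
    rw [hp, map_zero, ← hxa, ← hxb, ← hxr, hab, hrx, sub_self, map_zero]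
    rfl
  obtain ⟨y, hy⟩ := (Module.Flat.rTensor_exact B (LinearMap.exact_subtype_ker_map L) (e.hom x)).1 hL
  have hzero : ∀ y : (LinearMap.ker L) ⊗[A] B, (e.inv ≫ χ) ((LinearMap.ker L).subtype.rTensor B y) = 0 := by
    intro y
    induction y using TensorProduct.induction_on with
    | zero => exact (congrArg _ (map_zero _)).trans (map_zero _)
    | add y z hy hz =>
      rw [map_add]
      exact (map_add (e.inv ≫ χ).hom _ _).trans (by rw [hy, hz, add_zero])
    | tmul g d =>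
      have hg : a' g.1 - b' g.1 = 0 ∧ r' g.1 = 0 := Prod.ext_iff.1 (LinearMap.mem_ker.1 g.2)
      have hg0 : χ (ι g.1) = 0 := hcon g.1 (sub_eq_zero.1 hg.1) hg.2
      have hfac : (g.1 ⊗ₜ[A] d : (C : Type u) ⊗[A] B) = (includeLeft : C →ₐ[A] C ⊗[A] B) g.1 * (includeRight : B →ₐ[A] C ⊗[A] B) d := by
        simp
      rw [LinearMap.rTensor_tmul, Submodule.subtype_apply, hfac]
      refine (map_mul (e.inv ≫ χ).hom _ _).trans ?_
      have : (e.inv ≫ χ) ((includeLeft : C →ₐ[A] C ⊗[A] B) g.1) = χ (ι g.1) :=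
        ConcreteCategory.congr_hom (show CommRingCat.ofHom (includeLeft : C →ₐ[A] C ⊗[A] B).toRingHom ≫ e.inv ≫ χ =
          ι ≫ χ by
            rw [show CommRingCat.ofHom (includeLeft : C →ₐ[A] C ⊗[A] B).toRingHom = ι ≫ e.hom by simp [e]; rfl]
            simp) g.1
      erw [this, hg0, zero_mul]
  refine hx ?_
  have h0 := hzero y
  rw [hy] at h0
  simpa using h0

end GrothLib.SchEffective
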