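import Groth.Agent.Lib.SchEffective.Elt

/-!
# The functor of a descent datum is an fpqc sheaf; effective data are representable

Elements of `Elt D t` glue along fpqc covering sieves. If the family covers in the fpqc topology, an effective
datum represents its functor.
-/

set_option autoImplicit false
set_option backward.isDefEq.respectTransparency false
set_option backward.isDefEq.respectTransparency.types false

universe u

open CategoryTheory CategoryTheory.Limits AlgebraicGeometry Desc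

namespace GrothLib.SchEffective

variable {S : Scheme.{u}} {ι : Type u} {X : ι → Scheme.{u}} {f : ∀ i, X i ⟶ S} {D : SchDDFam f}
  {T : Scheme.{u}} {t : T ⟶ S}

theorem Elt.res_app {M : Scheme.{u}} {μ : M ⟶ S} (m : Elt D μ) (g : T ⟶ M) (hg : g ≫ μ = t)
    {T' : Scheme.{u}} {i : ι} (x : T' ⟶ X i) (s : T' ⟶ T) (h : x ≫ f i = s ≫ t)
    (h' : x ≫ f i = (s ≫ g) ≫ μ) : ((m.res g hg).app x s h).1 = (m.app x (s ≫ g) h').1 :=
  ((m.isRes_res g hg).2 x s h h').symm

/-- Two elements agreeing on a covering sieve are equal. -/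
theorem Elt.ext_of_cover {R : Sieve T} (hR : R ∈ Scheme.fpqcTopology T) {a a' : Elt D t}
    (h : ∀ ⦃T' : Scheme.{u}⦄ ⦃i : ι⦄ (x : T' ⟶ X i) (s : T' ⟶ T) (hh : x ≫ f i = s ≫ t), R s →
      (a.app x s hh).1 = (a'.app x s hh).1) : a = a' := by
  refine Elt.ext' fun T' i x s hh => ?_
  refine DDFull.hom_ext (Scheme.fpqcTopology.pullback_stable s hR) fun T'' r hr => ?_
  have h' : (r ≫ x) ≫ f i = (r ≫ s) ≫ t := by rw [Category.assoc, hh, Category.assoc]
  rw [← a.app_natural r x s hh h', ← a'.app_natural r x s hh h', h _ _ h' hr]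

/-- Elements glue along fpqc covering sieves. -/
theorem Elt.exists_glue {R : Sieve T} (hR : R ∈ Scheme.fpqcTopology T)
    (a : ∀ ⦃T' : Scheme.{u}⦄ (r : T' ⟶ T), R r → Elt D (r ≫ t))
    (hcomp : ∀ ⦃T' T'' : Scheme.{u}⦄ (k : T'' ⟶ T') (r : T' ⟶ T) (hr : R r) (hkr : R (k ≫ r)),
      IsRes (a r hr) k (a (k ≫ r) hkr)) :
    ∃ b : Elt D t, ∀ ⦃T' : Scheme.{u}⦄ (r : T' ⟶ T) (hr : R r), IsRes b r (a r hr) := by
  let val : ∀ ⦃T' : Scheme.{u}⦄ ⦃i : ι⦄ (x : T' ⟶ X i) (s : T' ⟶ T), x ≫ f i = s ≫ t → R s → Lifts (D.obj i) x :=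
    fun T' i x s h hs => (a s hs).app x (𝟙 _) (h.trans (Category.id_comp _).symm)
  have valnat : ∀ ⦃T' T'' : Scheme.{u}⦄ (k : T'' ⟶ T') ⦃i : ι⦄ (x : T' ⟶ X i) (s : T' ⟶ T) (h : x ≫ f i = s ≫ t)
      (hs : R s) (x' : T'' ⟶ X i) (s' : T'' ⟶ T) (_ : k ≫ x = x') (_ : k ≫ s = s') (h' : x' ≫ f i = s' ≫ t)
      (hs' : R s'), (val x' s' h' hs').1 = k ≫ (val x s h hs).1 := by
    intro T' T'' k i x s h hs x' s' ex es h' hs'
    subst ex es
    have e : (k ≫ x) ≫ f i = k ≫ s ≫ t := h'.trans (Category.assoc _ _ _)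
    refine ((hcomp k s hs hs').2 (k ≫ x) (𝟙 _) (h'.trans (Category.id_comp _).symm)
      (by rw [Category.id_comp]; exact e)).symm.trans ?_
    exact ((a s hs).app_congr rfl (by rw [Category.id_comp, Category.comp_id]) _
      (by rw [Category.comp_id]; exact e)).trans ((a s hs).app_natural k x (𝟙 _) _ _)
  have ex : ∀ (T' : Scheme.{u}) (i : ι) (x : T' ⟶ X i) (s : T' ⟶ T) (_ : x ≫ f i = s ≫ t),
      ∃ c : Lifts (D.obj i) x, ∀ ⦃T'' : Scheme.{u}⦄ (r : T'' ⟶ T') (hr : R (r ≫ s))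
        (h' : (r ≫ x) ≫ f i = (r ≫ s) ≫ t), r ≫ c.1 = (val (r ≫ x) (r ≫ s) h' hr).1 := by
    intro T' i x s h
    have h' : ∀ {T'' : Scheme.{u}} (r : T'' ⟶ T'), (r ≫ x) ≫ f i = (r ≫ s) ≫ t := fun r => by
      rw [Category.assoc, h, Category.assoc]
    have hR' := Scheme.fpqcTopology.pullback_stable s hR
    obtain ⟨c, hc⟩ := DDFull.exists_glue (W := (D.obj i).left) hR'
      (fun T'' r w => ∃ hr : R (r ≫ s), w = (val (r ≫ x) (r ≫ s) (h' r) hr).1)
      (fun T'' r hr => ⟨_, hr, rfl⟩) (fun T'' r w hw => hw.1)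
      (fun T'' r w w' hw hw' => hw.2.trans hw'.2.symm)
      (fun T₂ T₃ k r w hw => ⟨by rw [Category.assoc]; exact R.downward_closed hw.1 k, by
        rw [hw.2]
        exact (valnat k (r ≫ x) (r ≫ s) (h' r) hw.1 _ _ (Category.assoc _ _ _).symm (Category.assoc _ _ _).symm (h' (k ≫ r)) _).symm⟩)
    refine ⟨⟨c, DDFull.hom_ext hR' fun T'' r hr => ?_⟩, fun T'' r hr _ => hc r _ ⟨hr, rfl⟩⟩
    rw [← Category.assoc, hc r _ ⟨hr, rfl⟩, (val _ _ _ _).2]
    exact h' r
  choose v hv using ex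
  have hvR : ∀ ⦃T' : Scheme.{u}⦄ ⦃i : ι⦄ (x : T' ⟶ X i) (s : T' ⟶ T) (h : x ≫ f i = s ≫ t) (hs : R s),
      (v T' i x s h).1 = (val x s h hs).1 := by
    intro T' i x s h hs
    have := hv T' i x s h (𝟙 _) (by rw [Category.id_comp]; exact hs) (by rw [Category.id_comp, Category.id_comp]; exact h)
    rw [Category.id_comp] at this
    exact this.trans ((valnat (𝟙 _) x s h hs _ _ rfl rfl (by rw [Category.id_comp, Category.id_comp]; exact h) _).trans (Category.id_comp _))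
  refine ⟨Elt.ofFun (fun T' i x s h => v T' i x s h) ?_ ?_, fun T' r hr => ⟨rfl, fun T'' i x s h h' => ?_⟩⟩
  · intro T' T'' k i x s h x' s' hx hs h'
    subst hx hs
    refine DDFull.hom_ext (Scheme.fpqcTopology.pullback_stable (k ≫ s) hR) fun T₃ r hr => ?_
    have e1 : ((r ≫ k) ≫ x) ≫ f i = ((r ≫ k) ≫ s) ≫ t := by rw [Category.assoc (r ≫ k), h, Category.assoc (r ≫ k) s]
    have e2 : (r ≫ k ≫ x) ≫ f i = (r ≫ k ≫ s) ≫ t := by rw [← Category.assoc r k x, ← Category.assoc r k s]; exact e1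
    have hr' : R ((r ≫ k) ≫ s) := by rw [Category.assoc]; exact hr
    rw [hv _ _ _ _ h' r hr e2, ← Category.assoc r k (v T' i x s h).1, hv _ _ _ _ h (r ≫ k) hr' e1]
    exact (valnat (𝟙 T₃) _ _ e1 hr' _ _ (by rw [Category.id_comp, Category.assoc]) (by rw [Category.id_comp, Category.assoc])
      e2 hr).trans (Category.id_comp _)
  · intro T' i j x y s hx hy
    refine DDFull.hom_ext (Scheme.fpqcTopology.pullback_stable s hR) fun T₃ r hr => ?_
    have ex' : (r ≫ x) ≫ f i = (r ≫ s) ≫ t := by rw [Category.assoc, hx, Category.assoc]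
    have ey' : (r ≫ y) ≫ f j = (r ≫ s) ≫ t := by rw [Category.assoc, hy, Category.assoc]
    rw [hv _ _ _ _ hy r hr ey',
      ← D.φ_natural r x y (hx.trans hy.symm) (r ≫ x) (r ≫ y) rfl rfl (ex'.trans ey'.symm) _
        (val (r ≫ x) (r ≫ s) ex' hr) (hv _ _ _ _ hx r hr ex').symm]
    exact congrArg Subtype.val ((a (r ≫ s) hr).φ_app _ _ _ _ _ _)
  · have hsr : R (s ≫ r) := R.downward_closed hr s
    rw [Elt.ofFun_app, hvR x (s ≫ r) h' hsr]
    exact ((hcomp s r hr hsr).2 x (𝟙 _) _ (by rw [Category.id_comp]; exact h)).symm.trans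
      ((a r hr).app_congr rfl (Category.id_comp s) _ _)

/-- An effective datum represents its functor when the family is an fpqc covering. -/
theorem isRep_of_isEffective (hf : Sieve.ofArrows X f ∈ Scheme.fpqcTopology S) (hD : D.IsEffective) : IsRep D := by
  obtain ⟨U, ⟨e⟩⟩ := hD
  let m : Elt D U.hom :=
    { a := fun i => (e.hom.hom i).left
      hom := fun i => Over.w (e.hom.hom i)
      compat := fun T' i j x y s hx hy => by
        refine (e.hom.comm x y (hx.trans hy.symm) ⟨pullback.lift x s hx, pullback.lift_fst _ _ _⟩ _ rfl).trans ?_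
        refine congrArg (· ≫ (e.hom.hom j).left) ?_
        refine pullback.hom_ext ((pullback.lift_fst _ _ _).trans (pullback.lift_fst _ _ _).symm) ?_
        exact (pullback.lift_snd _ _ _).trans ((pullback.lift_snd _ _ _).trans (pullback.lift_snd _ _ _).symm) }
  have e1 : ∀ i, (e.hom.hom i).left ≫ (e.inv.hom i).left = 𝟙 (pullback (f i) U.hom) := fun i =>
    congrArg (fun b => (SchDDFam.Hom.hom b i).left) e.hom_inv_id
  have e2 : ∀ i, (e.inv.hom i).left ≫ (e.hom.hom i).left = 𝟙 (D.obj i).left := fun i =>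
    congrArg (fun b => (SchDDFam.Hom.hom b i).left) e.inv_hom_id
  have key : ∀ ⦃T' : Scheme.{u}⦄ ⦃i : ι⦄ (x : T' ⟶ X i) (s : T' ⟶ U.left) (h : x ≫ f i = s ≫ U.hom),
      (m.app x s h).1 ≫ (e.inv.hom i).left = pullback.lift x s h := fun T' i x s h =>
    (Category.assoc _ _ _).trans ((congrArg (pullback.lift x s h ≫ ·) (e1 i)).trans (Category.comp_id _))
  refine ⟨U.left, U.hom, m, fun T t a => ?_⟩
  have hR := Scheme.fpqcTopology.pullback_stable t hf
  let rel : ∀ ⦃T' : Scheme.{u}⦄, (T' ⟶ T) → (T' ⟶ U.left) → Prop := fun T' s w =>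
    ∃ (i : ι) (x : T' ⟶ X i) (h : x ≫ f i = s ≫ t),
      w = (a.app x s h).1 ≫ (e.inv.hom i).left ≫ pullback.snd (f i) U.hom
  have lift_eq : ∀ ⦃T' : Scheme.{u}⦄ ⦃i : ι⦄ (x : T' ⟶ X i) (v : Lifts (D.obj i) x),
      (v.1 ≫ (e.inv.hom i).left) ≫ pullback.fst (f i) U.hom = x := fun T' i x v =>
    (Category.assoc _ _ _).trans ((congrArg (v.1 ≫ ·) (Over.w (e.inv.hom i))).trans v.2)
  obtain ⟨c, hc⟩ := DDFull.exists_glue hR rel (fun T' s hs => by
      obtain ⟨i, x, h⟩ := (Sieve.mem_ofArrows_iff _ _ _).1 hs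
      exact ⟨_, i, x, h.symm, rfl⟩)
    (fun T' s w ⟨i, x, h, _⟩ => (Sieve.mem_ofArrows_iff _ _ _).2 ⟨i, x, h.symm⟩)
    (by
      rintro T' s w w' ⟨i, x, h, rfl⟩ ⟨j, y, h', rfl⟩
      let w₀ : Lifts (((toDDFam f).obj U).obj i) x := ⟨(a.app x s h).1 ≫ (e.inv.hom i).left, lift_eq x _⟩
      have h1 := e.inv.comm x y (h.trans h'.symm) (a.app x s h) w₀ rfl
      rw [a.φ_app x y s h h' (h.trans h'.symm)] at h1
      refine ((Category.assoc _ _ _).symm.trans ?_).trans (Category.assoc _ _ _)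
      refine Eq.trans ?_ (congrArg (· ≫ pullback.snd (f j) U.hom) h1)
      exact (pullback.lift_snd _ _ _).symm)
    (by
      rintro T₁ T₂ k s w ⟨i, x, h, rfl⟩
      refine ⟨i, k ≫ x, by rw [Category.assoc, h, Category.assoc], ?_⟩
      rw [a.app_natural k x s h, Category.assoc])
  have hct : c ≫ U.hom = t := by
    refine DDFull.hom_ext hR fun T' s hs => ?_
    obtain ⟨i, x, h⟩ := (Sieve.mem_ofArrows_iff _ _ _).1 hs
    refine (Category.assoc _ _ _).symm.trans ?_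
    rw [hc s _ ⟨i, x, h.symm, rfl⟩]
    refine Eq.trans ?_ h.symm
    refine (Category.assoc _ _ _).trans ?_
    refine (congrArg ((a.app x s h.symm).1 ≫ ·) (Category.assoc _ _ _)).trans ?_
    refine ((congrArg (fun q => (a.app x s h.symm).1 ≫ (e.inv.hom i).left ≫ q) pullback.condition.symm)).trans ?_
    exact ((congrArg ((a.app x s h.symm).1 ≫ ·) (Category.assoc _ _ _).symm).trans
      (Category.assoc _ _ _).symm).trans
      (congrArg (· ≫ f i) ((congrArg ((a.app x s h.symm).1 ≫ ·) (Over.w (e.inv.hom i))).trans (a.app x s h.symm).2))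
  refine ⟨c, ⟨hct, fun T' i x s h h' => ?_⟩, fun g hg => ?_⟩
  · change pullback.lift x (s ≫ c) h' ≫ (e.hom.hom i).left = _
    have hl : pullback.lift x (s ≫ c) h' = (a.app x s h).1 ≫ (e.inv.hom i).left :=
      pullback.hom_ext ((pullback.lift_fst _ _ _).trans (lift_eq x _).symm)
        ((pullback.lift_snd _ _ _).trans ((hc s _ ⟨i, x, h, rfl⟩).trans (Category.assoc _ _ _).symm))
    exact (congrArg (· ≫ (e.hom.hom i).left) hl).trans
      ((Category.assoc _ _ _).trans ((congrArg ((a.app x s h).1 ≫ ·) (e2 i)).trans (Category.comp_id _)))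
  · refine DDFull.hom_ext hR fun T' s hs => ?_
    obtain ⟨i, x, h⟩ := (Sieve.mem_ofArrows_iff _ _ _).1 hs
    have h' : x ≫ f i = (s ≫ g) ≫ U.hom := by rw [Category.assoc, hg.1]; exact h.symm
    rw [hc s _ ⟨i, x, h.symm, rfl⟩, ← hg.2 x s h.symm h']
    refine Eq.trans (pullback.lift_snd x (s ≫ g) h').symm ?_
    exact (congrArg (· ≫ pullback.snd (f i) U.hom) (key x (s ≫ g) h').symm).trans (Category.assoc _ _ _)

end GrothLib.SchEffective
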