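import Groth.Agent.Lib.SchEffective.Affine
import Groth.Agent.Lib.AlgSp.QuasiAffineDescent
import Groth.Agent.Lib.IndQA.Basic
import Mathlib.AlgebraicGeometry.Morphisms.FlatDescent

/-!
# Effective fpqc descent of quasi-affine morphisms
-/

set_option autoImplicit false
set_option backward.isDefEq.respectTransparency false
set_option backward.isDefEq.respectTransparency.types false

universe u

open CategoryTheory CategoryTheory.Limits AlgebraicGeometry Desc TensorProduct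

namespace GrothLib.SchEffective

open Algebra.TensorProduct (includeLeft includeRight productMap)
open GrothLib.AlgSp (gammaMap gammaMap_comp gammaMap_comp_SpecMap toSpecΓ_gammaMap isPushout_gammaMap)

/-- Quasi-affine schemes descend along faithfully flat maps of affine schemes. -/
theorem exists_descent_of_quasiAffine {X S : Scheme.{u}} (p : X ⟶ S) [IsAffine X] [IsAffine S] [Flat p]
    [Surjective p] (D : SchDD p) [D.obj.left.IsQuasiAffine] :
    ∃ (U : Over S) (e : D.obj.left ⟶ U.left), U.left.IsQuasiAffine ∧ IsPullback D.obj.hom e p U.hom ∧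
      ∀ ⦃T : Scheme.{u}⦄ (x₀ x₁ : T ⟶ X) (h : x₀ ≫ p = x₁ ≫ p) (v : Lifts D.obj x₀),
        (D.φ x₀ x₁ h v).1 ≫ e = v.1 ≫ e := by
  let Z := D.obj.left
  let h : Z ⟶ X := D.obj.hom
  let A := Γ(S, ⊤); let B := Γ(X, ⊤); let C := Γ(Z, ⊤)
  let φ : A ⟶ B := p.appTop
  let hB : Z ⟶ Spec B := h ≫ X.isoSpec.hom
  let χ : B ⟶ C := gammaMap hB
  have hp : X.isoSpec.hom ≫ Spec.map φ = p ≫ S.isoSpec.hom := Scheme.isoSpec_hom_naturality p
  haveI : Flat (Spec.map φ) := by
    rw [← (Iso.inv_comp_eq _).2 hp.symm]; infer_instance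
  haveI : Surjective (Spec.map φ) := by
    rw [← (Iso.inv_comp_eq _).2 hp.symm]; infer_instance
  let f : Z ⟶ Spec A := hB ≫ Spec.map φ
  have hf : gammaMap f = φ ≫ χ := gammaMap_comp_SpecMap _ _
  let _ : Algebra A B := φ.hom.toAlgebra
  let _ : Algebra A C := (φ ≫ χ).hom.toAlgebra
  have hflat : Module.Flat A B := p.flat_appTop
  let β : B →ₐ[A] C := { χ.hom with commutes' := fun _ => rfl }
  let ι : C →ₐ[A] C ⊗[A] B := includeLeft
  let ρ : B →ₐ[A] C ⊗[A] B := includeRight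
  -- the kernel pair
  let Q := pullback f (Spec.map φ)
  let p₁ : Q ⟶ Z := pullback.fst f (Spec.map φ)
  let p₂' : Q ⟶ Spec B := pullback.snd f (Spec.map φ)
  let p₂ : Q ⟶ X := p₂' ≫ X.isoSpec.inv
  have sqS : IsPullback p₁ p₂' f (Spec.map φ) := IsPullback.of_hasPullback _ _
  have hfS : f = (h ≫ p) ≫ S.isoSpec.hom := by simp only [f, hB, Category.assoc, hp]
  have sqX : IsPullback p₁ p₂ (h ≫ p) p := by
    refine sqS.of_iso (Iso.refl _) (Iso.refl _) X.isoSpec.symm S.isoSpec.symm (by simp) (by simp [p₂])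
      ?_ ?_
    · simp [hfS]
    · exact Scheme.isoSpec_inv_naturality p
  have hxy : (p₁ ≫ h) ≫ p = p₂ ≫ p := by rw [Category.assoc]; exact sqX.w
  let q : Lifts D.obj p₂ := D.φ (p₁ ≫ h) p₂ hxy ⟨p₁, rfl⟩
  have hqh : q.1 ≫ h = p₂ := q.2
  have hqB : q.1 ≫ hB = p₂' := by
    rw [← Category.assoc, hqh]; simp [p₂]
  have lifts : ∀ ⦃T : Scheme.{u}⦄ (x₀ x₁ : T ⟶ X) (hx : x₀ ≫ p = x₁ ≫ p) (v : Lifts D.obj x₀),
      ∃ l : T ⟶ Q, l ≫ p₁ = v.1 ∧ l ≫ p₂ = x₁ ∧ (D.φ x₀ x₁ hx v).1 = l ≫ q.1 := by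
    intro T x₀ x₁ hx v
    have hv : v.1 ≫ h ≫ p = x₁ ≫ p := by rw [← Category.assoc]; exact (congrArg (· ≫ p) v.2).trans hx
    refine ⟨sqX.lift v.1 x₁ hv, sqX.lift_fst _ _ hv, sqX.lift_snd _ _ hv, ?_⟩
    exact schDD_natural D _ ((Category.assoc _ _ _).symm.trans ((congrArg (· ≫ h) (sqX.lift_fst _ _ hv)).trans v.2))
      (sqX.lift_snd _ _ hv) hxy hx ⟨p₁, rfl⟩ v (sqX.lift_fst _ _ hv).symm
  have poQ : IsPushout (CommRingCat.ofHom (algebraMap A C)) φ p₁.appTop (gammaMap (X := Q) p₂') := by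
    have := isPushout_gammaMap φ sqS
    rwa [hf] at this
  have poT : IsPushout (CommRingCat.ofHom (algebraMap A C)) φ (CommRingCat.ofHom ι.toRingHom)
      (CommRingCat.ofHom ρ.toRingHom) := CommRingCat.isPushout_tensorProduct A C B
  let eQ := poQ.isoIsPushout _ _ poT
  have eQ₁ : p₁.appTop ≫ eQ.hom = CommRingCat.ofHom ι.toRingHom :=
    IsPushout.inl_isoIsPushout_hom _ _ poQ poT
  have eQ₂ : gammaMap (X := Q) p₂' ≫ eQ.hom = CommRingCat.ofHom ρ.toRingHom := by simp [eQ]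
  let θ₀ : C ⟶ .of (C ⊗[A] B) := q.1.appTop ≫ eQ.hom
  have hβ : χ ≫ θ₀ = CommRingCat.ofHom ρ.toRingHom := by
    rw [← eQ₂, ← hqB]
    exact (Category.assoc _ _ _).symm.trans (congrArg (· ≫ eQ.hom) (gammaMap_comp q.1 hB).symm)
  let θ : C →ₐ[A] C ⊗[A] B := { θ₀.hom with commutes' := fun r =>
    (ConcreteCategory.congr_hom hβ (φ r)).trans (ρ.commutes r) }
  have hβ' : ∀ b, θ (β b) = (1 : C) ⊗ₜ b := fun b => ConcreteCategory.congr_hom hβ b
  -- the counit
  have hu : (productMap (AlgHom.id A C) β).comp θ = AlgHom.id A C := by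
    let s : Z ⟶ Q := pullback.lift (𝟙 Z) hB (Category.id_comp _)
    have hs₁ : s ≫ p₁ = 𝟙 Z := pullback.lift_fst _ _ _
    have hs₂ : s ≫ p₂' = hB := pullback.lift_snd _ _ _
    have hsq : s ≫ q.1 = 𝟙 Z := by
      have := schDD_natural D s (y₀ := h) (y₁ := h) (by rw [← Category.assoc, hs₁, Category.id_comp])
        (by rw [← Category.assoc, hs₂]; simp [hB]) hxy rfl ⟨p₁, rfl⟩ ⟨𝟙 Z, Category.id_comp _⟩ hs₁.symm
      rw [D.φ_self] at this
      exact this.symm
    have e₁ : eQ.inv ≫ s.appTop = CommRingCat.ofHom (productMap (AlgHom.id A C) β).toRingHom := by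
      refine poT.hom_ext ?_ ?_
      · rw [← eQ₁, Category.assoc, Iso.hom_inv_id_assoc, ← Scheme.Hom.comp_appTop, hs₁, eQ₁]
        exact CommRingCat.hom_ext (RingHom.ext fun x => by simp [ι, C])
      · rw [← eQ₂, Category.assoc, Iso.hom_inv_id_assoc, ← gammaMap_comp, hs₂, eQ₂]
        exact CommRingCat.hom_ext (RingHom.ext fun x => by change χ x = productMap (AlgHom.id A C) β ((1 : C) ⊗ₜ x); rw [Algebra.TensorProduct.productMap_apply_tmul, map_one, one_mul]; rfl)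
    have h3 : θ₀ ≫ eQ.inv ≫ s.appTop = 𝟙 C := by
      simp only [θ₀, Category.assoc, Iso.hom_inv_id_assoc]
      rw [← Scheme.Hom.comp_appTop, hsq]
      simp [C]
    rw [e₁] at h3
    exact AlgHom.ext fun x => ConcreteCategory.congr_hom h3 x
  -- the cocycle condition
  have hc : (Algebra.TensorProduct.map θ (AlgHom.id A B)).comp θ =
      (Algebra.TensorProduct.map ι (AlgHom.id A B)).comp θ := by
    let R := (C ⊗[A] B) ⊗[A] B
    let fQ : Q ⟶ Spec A := p₁ ≫ f
    let E := pullback fQ (Spec.map φ)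
    let r : E ⟶ Q := pullback.fst fQ (Spec.map φ)
    let t : E ⟶ Spec B := pullback.snd fQ (Spec.map φ)
    have hrt : r ≫ p₁ ≫ f = t ≫ Spec.map φ := pullback.condition
    haveI : IsAffineHom p₁ := MorphismProperty.pullback_fst (P := @IsAffineHom) f (Spec.map φ)
      (isAffineHom_of_isAffine (Spec.map φ))
    haveI : CompactSpace ↥Q := QuasiCompact.compactSpace_of_compactSpace p₁
    haveI : QuasiSeparatedSpace ↥Q := quasiSeparatedSpace_of_quasiSeparated p₁
    have poE : IsPushout (CommRingCat.ofHom (algebraMap A C) ≫ p₁.appTop) φ r.appTop (gammaMap (X := E) t) := by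
      have := isPushout_gammaMap φ (f := fQ) (g := t) (p := r) (IsPullback.of_hasPullback fQ (Spec.map φ))
      rwa [gammaMap_comp, hf] at this
    have poD : IsPushout (CommRingCat.ofHom (algebraMap A (C ⊗[A] B))) φ
        (CommRingCat.ofHom (includeLeft : C ⊗[A] B →ₐ[A] R).toRingHom)
        (CommRingCat.ofHom (includeRight : B →ₐ[A] R).toRingHom) :=
      CommRingCat.isPushout_tensorProduct A (C ⊗[A] B) B
    have poE' : IsPushout (CommRingCat.ofHom (algebraMap A (C ⊗[A] B))) φ (eQ.inv ≫ r.appTop)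
        (gammaMap (X := E) t) := by
      refine poE.of_iso (Iso.refl _) eQ (Iso.refl _) (Iso.refl _) ?_ (by simp) (by simp) (by simp)
      rw [Category.assoc, eQ₁, Iso.refl_hom, Category.id_comp]
      exact CommRingCat.hom_ext (RingHom.ext fun x => by simp [ι])
    let eE := poE'.isoIsPushout _ _ poD
    have eE₁ : eQ.inv ≫ r.appTop ≫ eE.hom =
        CommRingCat.ofHom (includeLeft : C ⊗[A] B →ₐ[A] R).toRingHom := by
      rw [← Category.assoc]; simp [eE]
    have eE₂ : gammaMap (X := E) t ≫ eE.hom = CommRingCat.ofHom (includeRight : B →ₐ[A] R).toRingHom := by simp [eE]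
    have mk : ∀ (k : C →ₐ[A] C ⊗[A] B) (g : Q ⟶ Z), g.appTop ≫ eQ.hom = CommRingCat.ofHom k.toRingHom →
        g ≫ f = p₁ ≫ f →
        ∃ M : E ⟶ Q, M ≫ p₁ = r ≫ g ∧ M ≫ p₂' = t ∧ eQ.inv ≫ M.appTop ≫ eE.hom =
          CommRingCat.ofHom (Algebra.TensorProduct.map k (AlgHom.id A B)).toRingHom := by
      intro k g hk hg
      have hM : (r ≫ g) ≫ f = t ≫ Spec.map φ := by rw [Category.assoc, hg, hrt]
      refine ⟨sqS.lift (r ≫ g) t hM, sqS.lift_fst _ _ hM, sqS.lift_snd _ _ hM, poT.hom_ext ?_ ?_⟩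
      · rw [← eQ₁, Category.assoc, Iso.hom_inv_id_assoc, ← Category.assoc, ← Scheme.Hom.comp_appTop,
          sqS.lift_fst, Scheme.Hom.comp_appTop, Category.assoc, eQ₁]
        rw [show g.appTop = CommRingCat.ofHom k.toRingHom ≫ eQ.inv from (Iso.eq_comp_inv eQ).2 hk,
          Category.assoc, eE₁]
        exact CommRingCat.hom_ext (RingHom.ext fun x => by simp [ι, C])
      · rw [← eQ₂, Category.assoc, Iso.hom_inv_id_assoc, ← Category.assoc, ← gammaMap_comp,
          sqS.lift_snd, eE₂, eQ₂]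
        exact CommRingCat.hom_ext (RingHom.ext fun x => by simp [ρ])
    have hqf : q.1 ≫ f = p₁ ≫ f := by
      rw [sqS.w, ← hqB, Category.assoc]
    obtain ⟨M₁, h₁, h₁', h₁''⟩ := mk θ q.1 rfl hqf
    obtain ⟨M₂, h₂, h₂', h₂''⟩ := mk ι p₁ eQ₁ rfl
    let z : E ⟶ X := t ≫ X.isoSpec.inv
    have hz₁ : M₁ ≫ p₂ = z := by rw [← Category.assoc, h₁']
    have hz₂ : M₂ ≫ p₂ = z := by rw [← Category.assoc, h₂']
    have e₀ : (r ≫ p₁ ≫ h) ≫ p = (r ≫ p₂) ≫ p := by
      rw [Category.assoc, Category.assoc r p₂, Category.assoc p₁, sqX.w]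
    have e₁ : (r ≫ p₂) ≫ p = z ≫ p := by
      have e := congrArg (M₁ ≫ ·) hxy
      simp only [← Category.assoc, hz₁] at e
      rw [h₁, Category.assoc r q.1 h, hqh] at e
      exact e
    have eM₂ := schDD_natural D M₂ (y₀ := r ≫ p₁ ≫ h) (y₁ := z) (by rw [← Category.assoc, h₂, Category.assoc]) hz₂
      hxy (e₀.trans e₁) ⟨p₁, rfl⟩ ⟨r ≫ p₁, Category.assoc _ _ _⟩ h₂.symm
    have eM₁ := schDD_natural D M₁ (y₀ := r ≫ p₂) (y₁ := z)
      (by rw [← Category.assoc, h₁, Category.assoc, hqh]) hz₁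
      hxy e₁ ⟨p₁, rfl⟩ ⟨r ≫ q.1, (Category.assoc _ _ _).trans (congrArg (r ≫ ·) q.2)⟩ h₁.symm
    have er := schDD_natural D r (y₀ := r ≫ p₁ ≫ h) (y₁ := r ≫ p₂) rfl rfl
      hxy e₀ ⟨p₁, rfl⟩ ⟨r ≫ p₁, Category.assoc _ _ _⟩ rfl
    have hM : M₁ ≫ q.1 = M₂ ≫ q.1 := by
      refine eM₁.symm.trans (Eq.trans ?_ eM₂)
      rw [← D.φ_comp (r ≫ p₁ ≫ h) (r ≫ p₂) z e₀ e₁]
      exact schDD_φ_congr D rfl rfl _ _ er.symm
    have h3 := congrArg (fun x : E ⟶ Z => x.appTop ≫ eE.hom) hM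
    simp only [Scheme.Hom.comp_appTop, Category.assoc] at h3
    have h3' : θ₀ ≫ (eQ.inv ≫ M₁.appTop ≫ eE.hom) = θ₀ ≫ (eQ.inv ≫ M₂.appTop ≫ eE.hom) := by
      simpa only [θ₀, Category.assoc, Iso.hom_inv_id_assoc] using h3
    rw [h₁'', h₂''] at h3'
    exact AlgHom.ext fun x => ConcreteCategory.congr_hom h3' x
  -- the descended affine hull
  have hbij := GrothLib.AlgSp.bijective_productMap_equalizer β θ hβ' hc hu
  let C₀ := AlgHom.equalizer θ ι
  have sqP : IsPushout (CommRingCat.ofHom (algebraMap A C₀)) φ (CommRingCat.ofHom C₀.val.toRingHom) χ :=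
    (CommRingCat.isPushout_tensorProduct A C₀ B).of_iso (Iso.refl _) (Iso.refl _) (Iso.refl _)
      (RingEquiv.ofBijective (productMap C₀.val β).toRingHom hbij).toCommRingCatIso
      (by simp) (by simp; rfl)
      (CommRingCat.hom_ext (RingHom.ext fun x => by simp))
      (CommRingCat.hom_ext (RingHom.ext fun x => by simp [β]))
  let ebar : Spec C ⟶ Spec (.of C₀) := Spec.map (CommRingCat.ofHom C₀.val.toRingHom)
  let wbar : Spec C ⟶ Spec B := Spec.map χ
  let w₀ : Spec (.of C₀) ⟶ Spec A := Spec.map (CommRingCat.ofHom (algebraMap A C₀))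
  have sqB : IsPullback ebar wbar w₀ (Spec.map φ) := isPullback_SpecMap_of_isPushout _ _ _ _ sqP
  let j : Z ⟶ Spec C := Z.toSpecΓ
  haveI : IsOpenImmersion j := inferInstanceAs (IsOpenImmersion Z.toSpecΓ)
  have hj : j ≫ wbar = hB := toSpecΓ_gammaMap hB
  have he : q.1 ≫ j ≫ ebar = p₁ ≫ j ≫ ebar := by
    have key : ∀ g : Q ⟶ Z, g ≫ j ≫ ebar =
        Q.toSpecΓ ≫ Spec.map (CommRingCat.ofHom C₀.val.toRingHom ≫ g.appTop) := fun g => by
      rw [Spec.map_comp]
      exact Scheme.toSpecΓ_naturality_assoc g _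
    rw [key, key]
    refine congrArg (fun t => Q.toSpecΓ ≫ Spec.map t) ?_
    rw [← cancel_mono eQ.hom, Category.assoc, Category.assoc, eQ₁]
    exact CommRingCat.hom_ext (RingHom.ext fun x => x.2)
  have hjw : (j ≫ ebar) ≫ w₀ = f := by
    rw [Category.assoc, sqB.w, ← Category.assoc, hj]
  -- saturation
  have sqR : IsPullback (q.1 ≫ j) p₁ ebar (j ≫ ebar) := by
    refine IsPullback.of_right ?_ (by rw [Category.assoc]; exact he) sqB.flip
    rw [hjw, Category.assoc, hj, hqB]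
    exact sqS.flip
  haveI : Flat ebar := MorphismProperty.of_isPullback sqB.flip ‹Flat (Spec.map φ)›
  haveI : Surjective ebar := MorphismProperty.of_isPullback sqB.flip ‹Surjective (Spec.map φ)›
  let V₀ : Set (Spec (.of C₀)) := ebar '' Set.range j
  have hsat : ebar ⁻¹' V₀ = Set.range j := by
    refine Set.Subset.antisymm ?_ (Set.subset_preimage_image _ _)
    rintro y ⟨_, ⟨z, rfl⟩, hz⟩
    obtain ⟨w₁, hw₁, -⟩ := Scheme.Pullback.exists_preimage_pullback (f := ebar) (g := j ≫ ebar) y z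
      (by rw [Scheme.Hom.comp_apply]; exact hz.symm)
    obtain ⟨w, hw⟩ : ∃ w, (q.1 ≫ j) w = y :=
      ⟨sqR.isoPullback.inv w₁, by rw [← Scheme.Hom.comp_apply, sqR.isoPullback_inv_fst]; exact hw₁⟩
    exact ⟨q.1 w, by rw [← Scheme.Hom.comp_apply]; exact hw⟩
  have hopen : IsOpen V₀ := by
    rw [← (Flat.isQuotientMap_of_surjective ebar).isCoinducing.isOpen_preimage, hsat]
    exact j.isOpenEmbedding.isOpen_range
  let V : (Spec (.of C₀)).Opens := ⟨V₀, hopen⟩
  have hV : Set.range (j ≫ ebar) ⊆ Set.range V.ι := by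
    rw [Scheme.Opens.range_ι]
    rintro _ ⟨z, rfl⟩
    exact ⟨j z, ⟨z, rfl⟩, (Scheme.Hom.comp_apply _ _ _).symm⟩
  let e : Z ⟶ V := IsOpenImmersion.lift V.ι (j ≫ ebar) hV
  have hV' : e ≫ V.ι = j ≫ ebar := IsOpenImmersion.lift_fac _ _ _
  have sqV : IsPullback e j V.ι ebar := by
    refine IsOpenImmersion.isPullback e j V.ι ebar hV'.symm (TopologicalSpace.Opens.ext ?_)
    rw [Scheme.Opens.opensRange_ι]
    exact hsat
  let w : (V : Scheme.{u}) ⟶ S := V.ι ≫ w₀ ≫ S.isoSpec.inv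
  have sqU : IsPullback h e p w := by
    refine (sqV.paste_vert sqB).flip.of_iso (Iso.refl _) X.isoSpec.symm (Iso.refl _) S.isoSpec.symm ?_ ?_ ?_ ?_
    · rw [hj]; simp [hB]
    · simp
    · exact Scheme.isoSpec_inv_naturality p
    · simp [w]
  haveI : Surjective e := by
    refine MorphismProperty.of_isPullback (P := @Surjective) sqU ?_
    infer_instance
  haveI : CompactSpace ↥(Over.mk w).left := e.surjective.compactSpace e.continuous
  refine ⟨Over.mk w, e, Scheme.IsQuasiAffine.of_isImmersion V.ι, sqU, fun T x₀ x₁ hx v => ?_⟩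
  obtain ⟨l, hl₁, -, hl⟩ := lifts x₀ x₁ hx v
  rw [hl, ← hl₁, Category.assoc, Category.assoc]
  congr 1
  rw [← cancel_mono V.ι, Category.assoc, Category.assoc, hV', he]

/-- Ind-quasi-affineness passes to maps of disjoint unions. -/
theorem indQA_of_cover {Y W : Scheme.{u}} (f : Y ⟶ W) {κ : Type*} {Wk : κ → Scheme.{u}} (c : ∀ k, Wk k ⟶ W)
    [∀ k, IsOpenImmersion (c k)] (hcov : ∀ z : W, ∃ k, z ∈ (c k).opensRange)
    (h : ∀ k, MoreMor.IsIndQuasiAffineHom (pullback.snd f (c k))) : MoreMor.IsIndQuasiAffineHom f := by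
  rw [IndQA.indQA_iff]
  intro V hV U hle hU
  haveI : IsAffine (V : Scheme.{u}) := hV
  haveI : CompactSpace (U : Scheme.{u}) := isCompact_iff_compactSpace.mp hU
  refine IndQA.qa_of_forall_preimage (f.resLE V U hle) fun x => ?_
  obtain ⟨k, hk⟩ := hcov (V.ι (f.resLE V U hle x))
  obtain ⟨_, ⟨_, ⟨r, rfl⟩, rfl⟩, hxr, hrk⟩ :=
    (isBasis_basicOpen (V : Scheme.{u})).exists_subset_of_mem_open
      (show f.resLE V U hle x ∈ V.ι ⁻¹ᵁ (c k).opensRange from hk) (V.ι ⁻¹ᵁ (c k).opensRange).2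
  refine ⟨r, hxr, ?_⟩
  rw [IndQA.qa_image_iff U.ι]
  set P := U.ι ''ᵁ ((f.resLE V U hle) ⁻¹ᵁ (V : Scheme.{u}).basicOpen r) with hP
  set W' := V.ι ''ᵁ (V : Scheme.{u}).basicOpen r with hW'
  have hW'aff : IsAffineOpen W' :=
    ((isAffineOpen_top (V : Scheme.{u})).basicOpen r).image_of_isOpenImmersion V.ι
  have hPle : P ≤ f ⁻¹ᵁ W' := by
    rintro _ ⟨y, hy, rfl⟩
    exact ⟨f.resLE V U hle y, hy, congr($(Scheme.Hom.resLE_comp_ι f hle) y)⟩
  have hW'k : W' ≤ (c k).opensRange := by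
    rintro _ ⟨v, hv, rfl⟩
    exact hrk hv
  have hPc : IsCompact (P : Set Y) := by
    rw [hP, Scheme.Hom.coe_image]
    exact ((f.resLE V U hle).isCompact_preimage ((isAffineOpen_top (V : Scheme.{u})).basicOpen r).isCompact).image
      U.ι.continuous
  have hPk : P ≤ (pullback.fst f (c k)).opensRange := by
    intro y hy
    obtain ⟨v, hv⟩ := hW'k (hPle hy)
    obtain ⟨w, hw, -⟩ := Scheme.Pullback.exists_preimage_pullback y v hv.symm
    exact ⟨w, hw⟩
  have himg : (pullback.fst f (c k)) ''ᵁ ((pullback.fst f (c k)) ⁻¹ᵁ P) = P := by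
    rw [Scheme.Hom.image_preimage_eq_opensRange_inf, inf_eq_right]
    exact hPk
  rw [← himg, ← IndQA.qa_image_iff]
  refine (IndQA.indQA_iff _).mp (h k) ((c k) ⁻¹ᵁ W') ?_ _ ?_ ?_
  · refine (Scheme.Hom.isAffineOpen_iff_of_isOpenImmersion (c k)).mp ?_
    rw [Scheme.Hom.image_preimage_eq_opensRange_inf, inf_eq_right.mpr hW'k]
    exact hW'aff
  · intro y hy
    change c k (pullback.snd f (c k) y) ∈ W'
    rw [← Scheme.Hom.comp_apply, ← pullback.condition, Scheme.Hom.comp_apply]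
    exact hPle hy
  · rw [(pullback.fst f (c k)).isOpenEmbedding.isInducing.isCompact_iff, ← Scheme.Hom.coe_image, himg]
    exact hPc

/-- Quasi-compact ind-quasi-affine morphisms. -/
def qcQA : MorphismProperty Scheme.{u} := fun _ _ f => QuasiCompact f ∧ MoreMor.IsIndQuasiAffineHom f

instance : qcQA.{u}.IsStableUnderBaseChange :=
  ⟨fun {X Y Y' S f g f' g'} sq ⟨h₁, h₂⟩ =>
    ⟨MorphismProperty.of_isPullback (P := @QuasiCompact) sq h₁, IndQA.indQA_baseChange _ _ _ _ sq.flip.flip h₂⟩⟩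

/-- Effectivity for quasi-affine morphisms, along fpqc coverings. -/
theorem isEffective_of_qcQA {ι : Type u} {S : Scheme.{u}} {U : ι → Scheme.{u}} (u : ∀ i, U i ⟶ S)
    (hu : Presieve.ofArrows U u ∈ Scheme.fpqcPrecoverage S) (D : SchDDFam u)
    (hD : ∀ i, qcQA (D.obj i).hom) : D.IsEffective := by
  refine isEffective_of_affine_case qcQA (fun m Y V q hq => ?_) (fun X S p hX hS hp hs D hD => ?_) u hu D hD
  · refine ⟨sigmaMap_mem @QuasiCompact q fun j => (hq j).1, ?_⟩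
    refine indQA_of_cover _ (Sigma.ι V) (fun z => ?_) fun j => ?_
    · obtain ⟨j, y, hy⟩ := (sigmaOpenCover V).exists_eq z
      exact ⟨j, y, hy⟩
    · exact IndQA.indQA_baseChange (q j) _ (isPullback_sigmaMap q j).flip.isoPullback.inv (𝟙 _)
        (IsPullback.of_horiz_isIso ⟨by rw [Category.comp_id]; exact (isPullback_sigmaMap q j).flip.isoPullback_inv_snd⟩)
        (hq j).2
  · obtain ⟨hqc, hind⟩ := hD
    haveI : CompactSpace D.obj.left := QuasiCompact.compactSpace_of_compactSpace D.obj.hom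
    haveI : D.obj.left.IsQuasiAffine := by
      rw [← IndQA.qa_top_iff]
      exact (IndQA.indQA_iff _).mp hind ⊤ (isAffineOpen_top _) ⊤ le_top isCompact_univ
    obtain ⟨U', e, -, sq, inv⟩ := exists_descent_of_quasiAffine p D
    exact ⟨U', effective_of_isPullback D U' e sq inv⟩

end GrothLib.SchEffective
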