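import Groth.Agent.Lib.SchEffective.BaseChange
import Mathlib.AlgebraicGeometry.Sites.Representability
import Mathlib.CategoryTheory.Limits.Types.Pullbacks

/-!
# A descent datum covered by representable open subfunctors is representable
-/

set_option autoImplicit false
set_option backward.isDefEq.respectTransparency false
set_option backward.isDefEq.respectTransparency.types false

universe u

open CategoryTheory CategoryTheory.Limits AlgebraicGeometry Desc Opposite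

namespace GrothLib.SchEffective

variable {S : Scheme.{u}} {ι : Type u} {X : ι → Scheme.{u}} {f : ∀ i, X i ⟶ S} (D : SchDDFam f)

/-- Elements over all structure maps. -/
abbrev Tot (T : Scheme.{u}) : Type u := Σ t : T ⟶ S, Elt D t

variable {D}

theorem Tot.ext {T : Scheme.{u}} {z w : Tot D T} (e : z.1 = w.1)
    (h : ∀ ⦃T' : Scheme.{u}⦄ ⦃i : ι⦄ (x : T' ⟶ X i) (s : T' ⟶ T) (hz : x ≫ f i = s ≫ z.1) (hw : x ≫ f i = s ≫ w.1),
      (z.2.app x s hz).1 = (w.2.app x s hw).1) : z = w := by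
  obtain ⟨t, a⟩ := z
  obtain ⟨t', a'⟩ := w
  obtain rfl : t = t' := e
  exact congrArg (Sigma.mk t) (Elt.ext' fun T' i x s hh => h x s hh hh)

theorem Tot.app_eq {T : Scheme.{u}} {z w : Tot D T} (e : z = w) {T' : Scheme.{u}} {i : ι} (x : T' ⟶ X i)
    (s : T' ⟶ T) (hz : x ≫ f i = s ≫ z.1) (hw : x ≫ f i = s ≫ w.1) : (z.2.app x s hz).1 = (w.2.app x s hw).1 := by
  subst e; rfl

theorem isRes_iff {T M : Scheme.{u}} {μ : M ⟶ S} {m : Elt D μ} {g : T ⟶ M} {t : T ⟶ S} {a : Elt D t} :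
    IsRes m g a ↔ (⟨g ≫ μ, m.res g rfl⟩ : Tot D T) = ⟨t, a⟩ := by
  refine ⟨fun h => Tot.ext h.1 fun T' i x s hz hw => ?_, fun h => ⟨congrArg Sigma.fst h, fun T' i x s hh hh' => ?_⟩⟩
  · rw [Elt.res_app _ _ _ x s hz (by rw [Category.assoc]; exact hz), h.2 x s hw]
  · rw [← Elt.res_app m g rfl x s (by rw [← Category.assoc]; exact hh') hh']
    exact Tot.app_eq h x s _ hh

variable (D)

/-- The presheaf of elements. -/
noncomputable def totPsh : Scheme.{u}ᵒᵖ ⥤ Type u where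
  obj T := Tot D T.unop
  map g := ↾fun z => ⟨g.unop ≫ z.1, z.2.res g.unop rfl⟩
  map_id T := by
    refine ConcreteCategory.hom_ext _ _ fun z => ?_
    change (⟨(𝟙 T : T ⟶ T).unop ≫ z.1, z.2.res (𝟙 T : T ⟶ T).unop rfl⟩ : Tot D T.unop) = z
    refine Tot.ext (Category.id_comp _) fun T' i x s hz hw => ?_
    refine (Elt.res_app _ _ rfl x s hz ((hz.trans (Category.assoc _ _ _).symm))).trans ?_
    exact z.2.app_congr rfl (Category.comp_id s) _ _
  map_comp {T₁ T₂ T₃} g g' := by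
    refine ConcreteCategory.hom_ext _ _ fun z => ?_
    change (⟨(g ≫ g').unop ≫ z.1, z.2.res (g ≫ g').unop rfl⟩ : Tot D T₃.unop) =
      ⟨g'.unop ≫ g.unop ≫ z.1, (z.2.res g.unop rfl).res g'.unop rfl⟩
    refine Tot.ext (Category.assoc _ _ _) fun T' i x s hz hw => ?_
    have e1 : x ≫ f i = (s ≫ g'.unop) ≫ g.unop ≫ z.1 := hw.trans (Category.assoc _ _ _).symm
    have e2 : x ≫ f i = ((s ≫ g'.unop) ≫ g.unop) ≫ z.1 := e1.trans (Category.assoc _ _ _).symm
    refine (Elt.res_app _ _ rfl x s hz (hz.trans (Category.assoc _ _ _).symm)).trans ?_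
    refine Eq.trans ?_ (Elt.res_app _ _ rfl x s hw e1).symm
    refine Eq.trans ?_ (Elt.res_app _ _ rfl x (s ≫ g'.unop) e1 e2).symm
    exact z.2.app_congr rfl (Category.assoc s g'.unop g.unop).symm _ _

theorem totPsh_isSheaf : Presheaf.IsSheaf Scheme.zariskiTopology (totPsh D) := by
  rw [isSheaf_iff_isSheaf_of_type]
  intro T R hR x hx
  have hR' := Scheme.zariskiTopology_le_fpqcTopology T hR
  have hcompat : ∀ ⦃T' T'' : Scheme.{u}⦄ (k : T'' ⟶ T') (r : T' ⟶ T) (hr : R r) (hkr : R (k ≫ r)),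
      x (k ≫ r) hkr = ⟨k ≫ (x r hr).1, (x r hr).2.res k rfl⟩ := fun T' T'' k r hr hkr =>
    (Presieve.compatible_iff_sieveCompatible x).1 hx r k hr
  obtain ⟨t, ht⟩ := DDFull.exists_glue (W := S) hR' (fun T' r w => ∃ hr : R r, w = (x r hr).1)
    (fun T' r hr => ⟨_, hr, rfl⟩) (fun T' r w hw => hw.1) (fun T' r w w' hw hw' => hw.2.trans hw'.2.symm)
    (fun T₁ T₂ k r w hw => ⟨R.downward_closed hw.1 k, by
      rw [hw.2]; exact (congrArg Sigma.fst (hcompat k r hw.1 _)).symm⟩)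
  have ht' : ∀ ⦃T' : Scheme.{u}⦄ (r : T' ⟶ T) (hr : R r), (x r hr).1 = r ≫ t := fun T' r hr => (ht r _ ⟨hr, rfl⟩).symm
  let a : ∀ ⦃T' : Scheme.{u}⦄ (r : T' ⟶ T), R r → Elt D (r ≫ t) := fun T' r hr =>
    (x r hr).2.res (𝟙 T') ((Category.id_comp _).trans (ht' r hr))
  obtain ⟨b, hb⟩ := Elt.exists_glue hR' a fun T' T'' k r hr hkr => by
    refine ⟨(Category.assoc _ _ _).symm, fun T₃ i y s h h' => ?_⟩
    rw [Elt.res_app _ _ _ y (s ≫ k) h' (by rw [Category.comp_id, ht' r hr]; exact h'),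
      Elt.res_app _ _ _ y s h (by rw [Category.comp_id, ht' _ hkr]; exact h),
      Tot.app_eq (hcompat k r hr hkr) y (s ≫ 𝟙 _) _ (by
        change y ≫ f i = (s ≫ 𝟙 _) ≫ k ≫ (x r hr).1
        rw [Category.comp_id, ht' r hr, ← Category.assoc k r t]; exact h),
      Elt.res_app _ _ _ y (s ≫ 𝟙 _) _ (by rw [Category.comp_id, ht' r hr]; exact h')]
    exact (x r hr).2.app_congr rfl (by rw [Category.comp_id, Category.comp_id]) _ _
  refine ⟨⟨t, b⟩, fun T' r hr => ?_, fun z hz => ?_⟩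
  · refine Tot.ext (ht' r hr).symm fun T₃ i y s h h' => ?_
    have h0 : y ≫ f i = s ≫ r ≫ t := h
    refine (Elt.res_app _ _ rfl y s h0 (h0.trans (Category.assoc _ _ _).symm)).trans ?_
    rw [(hb r hr).2 y s h0 (by rw [Category.assoc]; exact h0),
      Elt.res_app _ _ _ y s h0 (by rw [Category.comp_id]; exact h')]
    exact (x r hr).2.app_congr rfl (Category.comp_id s) _ _
  · have hzt : z.1 = t := DDFull.hom_ext hR' fun T' r hr =>
      (congrArg Sigma.fst (hz r hr)).trans (ht' r hr)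
    obtain ⟨t₁, b₁⟩ := z
    obtain rfl : t₁ = t := hzt
    refine congrArg (Sigma.mk t₁) (Elt.ext_of_cover hR' fun T' i y s h hs => ?_)
    have h1 : y ≫ f i = 𝟙 T' ≫ (x s hs).1 := by rw [Category.id_comp, ht' s hs]; exact h
    have h2 : y ≫ f i = 𝟙 T' ≫ s ≫ t₁ := by rw [Category.id_comp]; exact h
    have e1 := Tot.app_eq (hz s hs) y (𝟙 T') h2 h1
    refine ((b₁.app_congr rfl (Category.id_comp s).symm _ (by rw [Category.id_comp]; exact h)).trans
      ((Elt.res_app b₁ s rfl y (𝟙 T') h2 (by rw [Category.id_comp]; exact h)).symm.trans e1)).trans ?_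
    refine Eq.trans ?_ (((hb s hs).2 y (𝟙 T') h2 (by rw [Category.id_comp]; exact h)).symm.trans
      (b.app_congr rfl (Category.id_comp s) _ _))
    exact ((Elt.res_app _ _ _ y (𝟙 T') h2 (by rw [Category.id_comp]; exact h1)).trans
      ((x s hs).2.app_congr rfl (Category.comp_id _) _ _)).symm

variable {D}

/-- A descent datum covered by representable open subfunctors is representable. -/
theorem isRep_of_openSub {κ : Type u} (M : κ → Scheme.{u}) (μ : ∀ k, M k ⟶ S) (m : ∀ k, Elt D (μ k))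
    (V : ∀ (_ : κ) {T : Scheme.{u}} (t : T ⟶ S) (_ : Elt D t), T.Opens)
    (hV : ∀ (k : κ) {T : Scheme.{u}} (t : T ⟶ S) (a : Elt D t) {T' : Scheme.{u}} (g : T' ⟶ T),
      Set.range g ⊆ (V k t a : Set T) ↔ ∃ h : T' ⟶ M k, IsRes (m k) h (a.res g rfl))
    (huniq : ∀ (k : κ) {T : Scheme.{u}} (t : T ⟶ S) (a : Elt D t) (h h' : T ⟶ M k),
      IsRes (m k) h a → IsRes (m k) h' a → h = h')
    (hcov : ∀ {T : Scheme.{u}} (t : T ⟶ S) (a : Elt D t) (z : T), ∃ k, z ∈ V k t a) : IsRep D := by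
  let F : Sheaf Scheme.zariskiTopology.{u} (Type u) := ⟨totPsh D, totPsh_isSheaf D⟩
  let φ : ∀ k, yoneda.obj (M k) ⟶ F.1 := fun k => yonedaEquiv.symm ⟨μ k, m k⟩
  have hφ : ∀ (k : κ) {T : Scheme.{u}} (h : T ⟶ M k),
      (φ k).app (op T) h = (⟨h ≫ μ k, (m k).res h rfl⟩ : Tot D T) := fun k T h => rfl
  have hf : ∀ k, IsOpenImmersion.presheaf (φ k) := fun k => by
    refine MorphismProperty.relative.of_exists fun T g => ?_
    obtain ⟨t, a, hta⟩ : ∃ (t : T ⟶ S) (a : Elt D t), yonedaEquiv g = (⟨t, a⟩ : Tot D T) :=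
      ⟨_, _, rfl⟩
    have hg : ∀ {T' : Scheme.{u}} (s : T' ⟶ T), g.app (op T') s = (⟨s ≫ t, a.res s rfl⟩ : Tot D T') := by
      intro T' s
      have : g.app (op T') s = F.1.map s.op (yonedaEquiv g) := by
        rw [yonedaEquiv_naturality]; rfl
      rw [this, hta]; rfl
    obtain ⟨h, hh⟩ := (hV k t a (V k t a).ι).1 (by rw [Scheme.Opens.range_ι])
    refine ⟨_, yoneda.map h, (V k t a).ι, ?_, inferInstance⟩
    refine IsPullback.of_forall_isPullback_app fun T' => ?_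
    obtain ⟨T', rfl⟩ : ∃ T₁, T' = op T₁ := ⟨T'.unop, rfl⟩
    rw [Types.isPullback_iff]
    refine ⟨?_, fun v v' hv => (cancel_mono (V k t a).ι).1 hv.2, fun l s hls => ?_⟩
    · ext v
      change (φ k).app (op T') (v ≫ h) = g.app (op T') (v ≫ (V k t a).ι)
      rw [hφ, hg]
      refine isRes_iff.1 (hh.comp ?_)
      refine ⟨(Category.assoc _ _ _).symm, fun T'' i x s hx hx' => ?_⟩
      exact (Elt.res_app a _ rfl x (s ≫ v) hx' (by rw [Category.assoc (s ≫ v)]; exact hx')).trans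
        ((a.app_congr rfl (Category.assoc _ _ _) _ (by rw [← Category.assoc s v]; simpa using hx')).trans
          (Elt.res_app a _ rfl x s hx _).symm)
    · obtain ⟨l, rfl⟩ : ∃ l' : T' ⟶ M k, l' = l := ⟨l, rfl⟩
      obtain ⟨s, rfl⟩ : ∃ s' : T' ⟶ T, s' = s := ⟨s, rfl⟩
      have hl : IsRes (m k) l (a.res s rfl) := isRes_iff.2 ((hφ k l).symm.trans (hls.trans (hg s)))
      have hr : Set.range s ⊆ Set.range (V k t a).ι := by
        rw [Scheme.Opens.range_ι]; exact (hV k t a s).2 ⟨l, hl⟩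
      refine ⟨IsOpenImmersion.lift (V k t a).ι s hr, ?_, IsOpenImmersion.lift_fac _ _ hr⟩
      refine huniq k _ (a.res s rfl) _ _ (hh.comp ⟨?_, fun T'' i x r hx hx' => ?_⟩) hl
      · rw [← Category.assoc, IsOpenImmersion.lift_fac]
      · exact (Elt.res_app a _ rfl x (r ≫ _) hx' (by rw [Category.assoc (r ≫ _)]; exact hx')).trans
          ((a.app_congr rfl (by rw [Category.assoc, IsOpenImmersion.lift_fac]) _
            (by rw [Category.assoc]; exact hx)).trans (Elt.res_app a _ rfl x r hx _).symm)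
  haveI : Presheaf.IsLocallySurjective Scheme.zariskiTopology (Sigma.desc φ) := ⟨fun {T} z => by
    obtain ⟨t, a⟩ := z
    let 𝒰 : T.OpenCover := T.openCoverOfIsOpenCover (fun k => V k t a)
      (TopologicalSpace.IsOpenCover.mk (eq_top_iff.mpr fun z _ =>
        TopologicalSpace.Opens.mem_iSup.mpr (hcov t a z)))
    refine GrothendieckTopology.superset_covering _ ?_ 𝒰.mem_grothendieckTopology
    rintro T' r ⟨Z, v, _, ⟨k⟩, rfl⟩
    obtain ⟨h, hh⟩ := (hV k t a (v ≫ 𝒰.f k)).1 (by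
      rintro _ ⟨z, rfl⟩
      exact ((v z) : (V k t a : Scheme)).2)
    refine ⟨(Sigma.ι (fun k => yoneda.obj (M k)) k).app (op T') h, ?_⟩
    rw [← NatTrans.comp_app_apply, Sigma.ι_desc]
    exact (hφ k h).trans (isRes_iff.1 hh)⟩
  have hrep := Scheme.LocalRepresentability.representableBy hf
  obtain ⟨μ₀, m₀, he⟩ : ∃ (μ₀ : _ ⟶ S) (m₀ : Elt D μ₀), hrep.homEquiv (𝟙 _) = (⟨μ₀, m₀⟩ : Tot D _) :=
    ⟨_, _, rfl⟩
  refine ⟨_, μ₀, m₀, fun T t a => ?_⟩
  have key : ∀ g : T ⟶ _, hrep.homEquiv g = (⟨g ≫ μ₀, m₀.res g rfl⟩ : Tot D T) := fun g => by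
    rw [hrep.homEquiv_eq, he]; rfl
  refine ⟨hrep.homEquiv.symm ⟨t, a⟩, isRes_iff.2 ((key _).symm.trans (hrep.homEquiv.apply_symm_apply _)),
    fun g hg => ?_⟩
  rw [Equiv.eq_symm_apply]
  exact (key g).trans (isRes_iff.1 hg)

/-- Representability may be checked on an open cover of the base. -/
theorem isRep_of_openCover {κ : Type u} (U : κ → S.Opens) (hU : TopologicalSpace.IsOpenCover U)
    (h : ∀ k, IsRepOver D (U k).ι) : IsRep D := by
  choose N ν n hn using h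
  refine isRep_of_openSub N (fun k => ν k ≫ (U k).ι) n (fun k T t a => t ⁻¹ᵁ U k) (fun k T t a T' g => ⟨fun hr => ?_, ?_⟩)
    (fun k T t a g g' hg hg' => ?_) (fun {T} t a z => ?_)
  · have hrt : Set.range (g ≫ t) ⊆ Set.range (U k).ι := by
      rw [Scheme.Opens.range_ι]
      rintro _ ⟨z, rfl⟩
      exact hr ⟨z, rfl⟩
    let t' := IsOpenImmersion.lift (U k).ι (g ≫ t) hrt
    obtain ⟨l, ⟨hl1, hl2⟩, -⟩ := hn k t' (a.res g (IsOpenImmersion.lift_fac _ _ hrt).symm)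
    refine ⟨l, (by rw [← Category.assoc, hl1]; exact IsOpenImmersion.lift_fac _ _ hrt), fun T'' i x s hx hx' => ?_⟩
    rw [hl2.2 x s (by rw [IsOpenImmersion.lift_fac]; exact hx) hx',
      Elt.res_app _ _ _ x s _ (by rw [Category.assoc]; exact hx), Elt.res_app _ _ _ x s hx]
  · rintro ⟨l, hl⟩ _ ⟨z, rfl⟩
    change t (g z) ∈ U k
    rw [← Scheme.Hom.comp_apply, ← hl.1, ← Category.assoc, Scheme.Hom.comp_apply]
    exact ((l ≫ ν k) z).2
  · obtain ⟨e, e'⟩ : (g ≫ ν k) ≫ (U k).ι = t ∧ g' ≫ ν k = g ≫ ν k :=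
      ⟨(Category.assoc _ _ _).trans hg.1, (cancel_mono (U k).ι).1 (by simp only [Category.assoc, hg.1, hg'.1])⟩
    obtain ⟨l, -, hu⟩ := hn k (g ≫ ν k) (a.res (𝟙 T) ((Category.id_comp t).trans e.symm))
    have key : ∀ g₀ : T ⟶ N k, IsRes (n k) g₀ a → IsRes (n k) g₀ (a.res (𝟙 T) ((Category.id_comp t).trans e.symm)) :=
      fun g₀ h0 => by
        refine ⟨h0.1.trans e.symm, fun T'' i x s hx hx' => ?_⟩
        have hx0 : x ≫ f i = s ≫ t := by rw [← e]; exact hx
        rw [h0.2 x s hx0 hx', Elt.res_app _ _ _ x s hx (by rw [Category.comp_id]; exact hx0)]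
        exact a.app_congr rfl (Category.comp_id s).symm _ _
    exact (hu g ⟨rfl, key g hg⟩).trans (hu g' ⟨e', key g' hg'⟩).symm
  · obtain ⟨k, hk⟩ := hU.exists_mem (t z)
    exact ⟨k, hk⟩

end GrothLib.SchEffective
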