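import Groth.Agent.Lib.SchEffective.Affine
import Mathlib.AlgebraicGeometry.PullbackCarrier

/-!
# The equivalence relation of a descent datum and saturated opens
-/

set_option autoImplicit false
set_option backward.isDefEq.respectTransparency false
set_option backward.isDefEq.respectTransparency.types false

universe u

open CategoryTheory CategoryTheory.Limits AlgebraicGeometry Desc

namespace GrothLib.SchEffective

variable {X S : Scheme.{u}} {p : X ⟶ S} (D : SchDD p)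

/-- The relation scheme `Z ×_S X` of a datum. -/
noncomputable abbrev relScheme : Scheme.{u} := pullback (D.obj.hom ≫ p) p

/-- The first projection of the relation. -/
noncomputable abbrev relSrc : relScheme D ⟶ D.obj.left := pullback.fst _ _

theorem relSrc_cond : (relSrc D ≫ D.obj.hom) ≫ p = pullback.snd (D.obj.hom ≫ p) p ≫ p := by
  rw [Category.assoc]; exact pullback.condition

/-- The second projection of the relation. -/
noncomputable def relTgt : relScheme D ⟶ D.obj.left :=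
  (D.φ (relSrc D ≫ D.obj.hom) (pullback.snd _ _) (relSrc_cond D) ⟨relSrc D, rfl⟩).1

theorem relTgt_hom : relTgt D ≫ D.obj.hom = pullback.snd _ _ :=
  (D.φ (relSrc D ≫ D.obj.hom) (pullback.snd _ _) (relSrc_cond D) ⟨relSrc D, rfl⟩).2

theorem comp_relTgt {T : Scheme.{u}} (l : T ⟶ relScheme D) {x₀ x₁ : T ⟶ X} (h : x₀ ≫ p = x₁ ≫ p)
    (v : Lifts D.obj x₀) (hv : l ≫ relSrc D = v.1) (hx : l ≫ pullback.snd _ _ = x₁) :
    (D.φ x₀ x₁ h v).1 = l ≫ relTgt D :=
  schDD_natural D l ((Category.assoc _ _ _).symm.trans ((congrArg (· ≫ D.obj.hom) hv).trans v.2)) hx (relSrc_cond D) h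
    ⟨relSrc D, rfl⟩ v hv.symm

theorem exists_lift_rel {T : Scheme.{u}} {x₀ x₁ : T ⟶ X} (h : x₀ ≫ p = x₁ ≫ p) (v : Lifts D.obj x₀) :
    ∃ l : T ⟶ relScheme D, l ≫ relSrc D = v.1 ∧ l ≫ pullback.snd _ _ = x₁ ∧ (D.φ x₀ x₁ h v).1 = l ≫ relTgt D :=
  have hv : v.1 ≫ D.obj.hom ≫ p = x₁ ≫ p := by rw [← Category.assoc]; exact (congrArg (· ≫ p) v.2).trans h
  ⟨pullback.lift v.1 x₁ hv, pullback.lift_fst _ _ _, pullback.lift_snd _ _ _,
    comp_relTgt D _ h v (pullback.lift_fst _ _ _) (pullback.lift_snd _ _ _)⟩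

theorem relTgt_cond : relTgt D ≫ D.obj.hom ≫ p = (relSrc D ≫ D.obj.hom) ≫ p := by
  rw [← Category.assoc, relTgt_hom, relSrc_cond]

/-- The symmetry of the relation. -/
noncomputable def relFlip : relScheme D ⟶ relScheme D :=
  pullback.lift (relTgt D) (relSrc D ≫ D.obj.hom) (relTgt_cond D)

theorem relFlip_src : relFlip D ≫ relSrc D = relTgt D := pullback.lift_fst _ _ _

theorem relFlip_tgt : relFlip D ≫ relTgt D = relSrc D := by
  have h : pullback.snd (D.obj.hom ≫ p) p ≫ p = (relSrc D ≫ D.obj.hom) ≫ p := (relSrc_cond D).symm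
  rw [← comp_relTgt D (relFlip D) h ⟨relTgt D, relTgt_hom D⟩ (relFlip_src D) (pullback.lift_snd _ _ _)]
  refine Eq.trans ?_ (congrArg Subtype.val (D.φ_self (relSrc D ≫ D.obj.hom) ⟨relSrc D, rfl⟩))
  rw [← D.φ_comp (relSrc D ≫ D.obj.hom) (pullback.snd _ _) (relSrc D ≫ D.obj.hom) (relSrc_cond D) h]
  rfl

theorem relFlip_flip : relFlip D ≫ relFlip D = 𝟙 _ := by
  refine pullback.hom_ext ?_ ?_
  · rw [Category.assoc, relFlip_src, relFlip_tgt, Category.id_comp]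
  · rw [Category.assoc, show relFlip D ≫ pullback.snd (D.obj.hom ≫ p) p = relSrc D ≫ D.obj.hom from pullback.lift_snd _ _ _,
      ← Category.assoc, relFlip_src, relTgt_hom, Category.id_comp]

instance : IsIso (relFlip D) := ⟨relFlip D, relFlip_flip D, relFlip_flip D⟩

theorem relTgt_mem (P : MorphismProperty Scheme.{u}) [P.IsStableUnderBaseChange] (hp : P p) : P (relTgt D) := by
  rw [← relFlip_src]
  exact (P.cancel_left_of_respectsIso _ _).2 (MorphismProperty.pullback_fst _ _ hp)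

theorem exists_rel_self (z : D.obj.left) : ∃ w : relScheme D, relSrc D w = z ∧ relTgt D w = z := by
  obtain ⟨l, hl, -, ht⟩ := exists_lift_rel D (rfl : D.obj.hom ≫ p = D.obj.hom ≫ p) ⟨𝟙 _, Category.id_comp _⟩
  rw [D.φ_self] at ht
  refine ⟨l z, ?_, ?_⟩
  · rw [← Scheme.Hom.comp_apply, hl]; rfl
  · rw [← Scheme.Hom.comp_apply, ← ht]; rfl

theorem exists_rel_symm (w : relScheme D) :
    ∃ w' : relScheme D, relSrc D w' = relTgt D w ∧ relTgt D w' = relSrc D w := by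
  refine ⟨relFlip D w, ?_, ?_⟩
  · rw [← Scheme.Hom.comp_apply, relFlip_src]
  · rw [← Scheme.Hom.comp_apply, relFlip_tgt]

theorem exists_rel_trans (w w' : relScheme D) (h : relTgt D w = relSrc D w') :
    ∃ w'' : relScheme D, relSrc D w'' = relSrc D w ∧ relTgt D w'' = relTgt D w' := by
  obtain ⟨τ, hτ₁, hτ₂⟩ := Scheme.Pullback.exists_preimage_pullback (f := relTgt D) (g := relSrc D) w w' h
  let π₁ := pullback.fst (relTgt D) (relSrc D)
  let π₂ := pullback.snd (relTgt D) (relSrc D)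
  let x₀ := π₁ ≫ relSrc D ≫ D.obj.hom
  let x₁ := π₁ ≫ pullback.snd (D.obj.hom ≫ p) p
  let x₂ := π₂ ≫ pullback.snd (D.obj.hom ≫ p) p
  have hm : π₂ ≫ relSrc D ≫ D.obj.hom = x₁ := by
    rw [← Category.assoc, ← pullback.condition, Category.assoc, relTgt_hom]
  have h₀₁ : x₀ ≫ p = x₁ ≫ p := by
    simp only [x₀, x₁, Category.assoc]; rw [← Category.assoc (relSrc D), relSrc_cond]
  have h₁₂ : x₁ ≫ p = x₂ ≫ p := by
    rw [← hm, Category.assoc, relSrc_cond, ← Category.assoc]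
  let v : Lifts D.obj x₀ := ⟨π₁ ≫ relSrc D, Category.assoc _ _ _⟩
  have e₁ := comp_relTgt D π₁ h₀₁ v rfl rfl
  have e₂ := comp_relTgt D π₂ h₁₂ (D.φ x₀ x₁ h₀₁ v) (by rw [e₁]; exact pullback.condition.symm) rfl
  obtain ⟨l, hl, -, ht⟩ := exists_lift_rel D (h₀₁.trans h₁₂) v
  rw [← D.φ_comp x₀ x₁ x₂ h₀₁ h₁₂, e₂] at ht
  refine ⟨l τ, ?_, ?_⟩
  · rw [← Scheme.Hom.comp_apply, hl, ← hτ₁]; exact Scheme.Hom.comp_apply _ _ _
  · rw [← Scheme.Hom.comp_apply, ← ht, Scheme.Hom.comp_apply, hτ₂]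

/-- The points all whose translates lie in `A`. -/
def satCore (A : Set D.obj.left) : Set D.obj.left := (relSrc D '' (relTgt D ⁻¹' Aᶜ))ᶜ

/-- The translates of a set. -/
def satHull (A : Set D.obj.left) : Set D.obj.left := relSrc D '' (relTgt D ⁻¹' A)

/-- An open stable under the relation. -/
def IsSaturated (W : Set D.obj.left) : Prop := ∀ w : relScheme D, relSrc D w ∈ W → relTgt D w ∈ W

theorem satCore_subset (A : Set D.obj.left) : satCore D A ⊆ A := fun z hz => by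
  by_contra h
  obtain ⟨w, hw, hw'⟩ := exists_rel_self D z
  exact hz ⟨w, show relTgt D w ∉ A by rwa [hw'], hw⟩

theorem isSaturated_satCore (A : Set D.obj.left) : IsSaturated D (satCore D A) := by
  rintro w hw ⟨w', hw', hs⟩
  obtain ⟨w'', h₁, h₂⟩ := exists_rel_trans D w w' hs.symm
  exact hw ⟨w'', show relTgt D w'' ∉ A by rw [h₂]; exact hw', h₁⟩

theorem subset_satHull (A : Set D.obj.left) : A ⊆ satHull D A := fun z hz => by
  obtain ⟨w, hw, hw'⟩ := exists_rel_self D z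
  exact ⟨w, show relTgt D w ∈ A by rw [hw']; exact hz, hw⟩

theorem isSaturated_satHull (A : Set D.obj.left) : IsSaturated D (satHull D A) := by
  rintro w ⟨w₀, hw₀, hs⟩
  obtain ⟨w', h₁', h₂'⟩ := exists_rel_symm D w
  obtain ⟨w'', h₁, h₂⟩ := exists_rel_trans D w' w₀ (h₂'.trans hs.symm)
  exact ⟨w'', show relTgt D w'' ∈ A by rw [h₂]; exact hw₀, h₁.trans h₁'⟩

theorem satHull_subset {A W : Set D.obj.left} (hW : IsSaturated D W) (h : A ⊆ W) : satHull D A ⊆ W := by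
  rintro _ ⟨w, hw, rfl⟩
  obtain ⟨w', h₁, h₂⟩ := exists_rel_symm D w
  rw [← h₂]
  exact hW w' (by rw [h₁]; exact h hw)

theorem exists_restrict (W : D.obj.left.Opens) (hW : IsSaturated D W) :
    ∃ (D' : SchDD p) (j : D' ⟶ D), IsOpenImmersion j.hom.left ∧ Set.range j.hom.left = (W : Set D.obj.left) ∧
      D'.obj.left = (W : Scheme.{u}) ∧ Nonempty (D'.obj ≅ Over.mk (W.ι ≫ D.obj.hom)) := by
  let up : ∀ {T : Scheme.{u}} {x : T ⟶ X}, Lifts (Over.mk (W.ι ≫ D.obj.hom)) x → Lifts D.obj x :=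
    fun v => ⟨v.1 ≫ W.ι, (Category.assoc _ _ _).trans v.2⟩
  have hr : ∀ {T : Scheme.{u}} {x₀ x₁ : T ⟶ X} (h : x₀ ≫ p = x₁ ≫ p) (v : Lifts (Over.mk (W.ι ≫ D.obj.hom)) x₀),
      Set.range (D.φ x₀ x₁ h (up v)).1 ⊆ Set.range W.ι := by
    intro T x₀ x₁ h v
    obtain ⟨l, hl, -, ht⟩ := exists_lift_rel D h (up v)
    rw [ht, Scheme.Opens.range_ι]
    rintro _ ⟨z, rfl⟩
    rw [Scheme.Hom.comp_apply]
    refine hW _ ?_
    rw [← Scheme.Hom.comp_apply, hl, Scheme.Hom.comp_apply]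
    exact (v.1 z).2
  let fn : ∀ {T : Scheme.{u}} (x₀ x₁ : T ⟶ X) (_ : x₀ ≫ p = x₁ ≫ p),
      Lifts (Over.mk (W.ι ≫ D.obj.hom)) x₀ → Lifts (Over.mk (W.ι ≫ D.obj.hom)) x₁ :=
    fun x₀ x₁ h v => ⟨IsOpenImmersion.lift W.ι _ (hr h v), by
      change IsOpenImmersion.lift W.ι _ (hr h v) ≫ W.ι ≫ D.obj.hom = x₁
      rw [← Category.assoc, IsOpenImmersion.lift_fac]; exact (D.φ x₀ x₁ h (up v)).2⟩
  have hfn : ∀ {T : Scheme.{u}} (x₀ x₁ : T ⟶ X) (h : x₀ ≫ p = x₁ ≫ p) (v : Lifts (Over.mk (W.ι ≫ D.obj.hom)) x₀),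
      up (fn x₀ x₁ h v) = D.φ x₀ x₁ h (up v) := fun x₀ x₁ h v => Subtype.ext (IsOpenImmersion.lift_fac _ _ _)
  have up_inj : ∀ {T : Scheme.{u}} {x : T ⟶ X}, Function.Injective (up (T := T) (x := x)) :=
    fun {T x v v'} e => Subtype.ext ((cancel_mono W.ι).1 (congrArg Subtype.val e))
  let D' : SchDD p :=
    { obj := Over.mk (W.ι ≫ D.obj.hom)
      φ := fun T x₀ x₁ h =>
        { toFun := fn x₀ x₁ h
          invFun := fn x₁ x₀ h.symm
          left_inv := fun v => up_inj (by rw [hfn, hfn, D.φ_comp, D.φ_self])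
          right_inv := fun v => up_inj (by rw [hfn, hfn, D.φ_comp, D.φ_self]) }
      φ_natural := fun T T' g x₀ x₁ h h' v v' hv' => by
        change (fn (g ≫ x₀) (g ≫ x₁) h' v').1 = g ≫ (fn x₀ x₁ h v).1
        refine (cancel_mono W.ι).1 ?_
        rw [Category.assoc]
        change (up (fn (g ≫ x₀) (g ≫ x₁) h' v')).1 = g ≫ (up (fn x₀ x₁ h v)).1
        rw [hfn, hfn]
        exact D.φ_natural g x₀ x₁ h h' (up v) (up v') ((congrArg (· ≫ W.ι) hv').trans (Category.assoc _ _ _))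
      φ_self := fun T x v => up_inj (by change up (fn x x rfl v) = _; rw [hfn, D.φ_self])
      φ_comp := fun T x₀ x₁ x₂ h₀₁ h₁₂ v => up_inj (by
        change up (fn x₁ x₂ h₁₂ (fn x₀ x₁ h₀₁ v)) = up (fn x₀ x₂ _ v)
        rw [hfn, hfn, hfn, D.φ_comp]) }
  refine ⟨D', ⟨Over.homMk W.ι rfl, fun T x₀ x₁ h v w hw => ?_⟩, ?_, Scheme.Opens.range_ι W, rfl, ⟨Iso.refl _⟩⟩
  swap
  · show IsOpenImmersion W.ι
    infer_instance
  rw [show w = up v from Subtype.ext hw, ← hfn]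
  rfl

end GrothLib.SchEffective
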