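import Groth.Agent.Lib.SchEffective.Affine
import Groth.Agent.Lib.SchEffective.Union
import Groth.Agent.Lib.SchEffective.Rel
import Mathlib.AlgebraicGeometry.Morphisms.UniversallyInjective

/-!
# Effective descent along radicial fpqc morphisms
-/

set_option autoImplicit false
set_option backward.isDefEq.respectTransparency false
set_option backward.isDefEq.respectTransparency.types false

universe u

open CategoryTheory CategoryTheory.Limits AlgebraicGeometry Desc

namespace GrothLib.SchEffective

/-- A universally injective morphism is separated. -/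
theorem isSeparated_of_radicial {X Y : Scheme.{u}} (p : X ⟶ Y) [h : UniversallyInjective p] : IsSeparated p := by
  haveI : Surjective (pullback.diagonal p) := (UniversallyInjective.iff_diagonal p).mp h
  exact ⟨IsClosedImmersion.of_isPreimmersion _ (by rw [(pullback.diagonal p).surjective.range_eq]; exact isClosed_univ)⟩

/-- Over an affine base. -/
theorem isRep_of_radicial_affine {X Y : Scheme.{u}} (p : X ⟶ Y) [IsAffine Y] [Surjective p] [Flat p]
    [QuasiCompact p] [UniversallyInjective p] (D : SchDD p) : IsRep ((SchDDFam.ofSchDD p).obj D) := by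
  haveI := isSeparated_of_radicial p
  haveI : X.IsSeparated := ⟨by
    rw [← terminal.comp_from p]
    infer_instance⟩
  haveI : UniversallyInjective (relSrc D) :=
    MorphismProperty.pullback_fst (P := @UniversallyInjective) _ _ inferInstance
  have hp' : Presieve.ofArrows (fun _ : PUnit.{u + 1} => X) (fun _ => p) ∈ Scheme.fpqcPrecoverage Y := by
    rw [Presieve.ofArrows_pUnit]
    exact Scheme.Hom.singleton_mem_fpqcPrecoverage p
  have key : ∀ v : D.obj.left, ∃ (D' : SchDD p) (j : D' ⟶ D), IsOpenImmersion j.hom.left ∧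
      v ∈ Set.range j.hom.left ∧ IsRep ((SchDDFam.ofSchDD p).obj D') := by
    intro v
    obtain ⟨_, ⟨U₁, hU₁, rfl⟩, hv, -⟩ :=
      D.obj.left.isBasis_affineOpens.exists_subset_of_mem_open (Set.mem_univ v) isOpen_univ
    have hsat : IsSaturated D (U₁ : Set D.obj.left) := fun w hw => by
      obtain ⟨w', hw₁, hw₂⟩ := exists_rel_self D (relSrc D w)
      rw [(relSrc D).injective hw₁] at hw₂
      rw [hw₂]; exact hw
    obtain ⟨D', j, hj, hjr, -, ⟨e⟩⟩ := exists_restrict D U₁ hsat
    refine ⟨D', j, hj, hjr ▸ hv, ?_⟩
    haveI : IsAffine (U₁ : Scheme.{u}) := hU₁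
    haveI : IsAffineHom (Scheme.Opens.ι U₁ ≫ D.obj.hom) := by
      haveI : IsAffineHom ((Scheme.Opens.ι U₁ ≫ D.obj.hom) ≫ terminal.from X) :=
        isAffineHom_of_isAffine _
      exact MorphismProperty.of_postcomp (W := @IsAffineHom) (W' := @IsSeparated) _ (terminal.from X)
        inferInstance inferInstance
    have hD' : IsAffineHom D'.obj.hom :=
      (MorphismProperty.arrow_mk_iso_iff @IsAffineHom
        (Arrow.isoMk ((Over.forget X).mapIso e) (Iso.refl X) (by
          dsimp; rw [Category.comp_id]; exact Over.w e.hom))).2 ‹IsAffineHom (Scheme.Opens.ι U₁ ≫ D.obj.hom)›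
    exact isRep_of_isEffective (DDFull.ofArrows_mem hp') (isEffective_of_isAffineHom _ hp' _ fun _ => hD')
  choose D' j hj hv hrep using key
  exact isRep_of_openSubData p (fun v => (SchDDFam.ofSchDD p).obj (D' v))
    (fun v => (SchDDFam.ofSchDD p).map (j v)) hj (fun v => ⟨v, hv v⟩) hrep

/-- Every datum along a radicial fpqc morphism is effective. -/
theorem exists_descent_of_radicial {X S : Scheme.{u}} (p : X ⟶ S) [Flat p] [Surjective p]
    [QuasiCompact p] [UniversallyInjective p] (D : SchDD p) :
    ∃ U : Over S, Nonempty ((toDD p).obj U ≅ D) := by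
  have hrep : IsRep ((SchDDFam.ofSchDD p).obj D) := by
    refine isRep_of_openCover (fun W : S.affineOpens => W.1)
      (TopologicalSpace.IsOpenCover.mk (iSup_affineOpens_eq_top S)) fun W => ?_
    haveI : IsAffine (W.1 : Scheme.{u}) := W.2
    let p₁ := pullback.snd p W.1.ι
    let p' := pullback.fst p W.1.ι
    haveI : Surjective p₁ := MorphismProperty.pullback_snd (P := @Surjective) _ _ inferInstance
    haveI : UniversallyInjective p₁ := MorphismProperty.pullback_snd (P := @UniversallyInjective) _ _ inferInstance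
    have hcov : Sieve.ofArrows (fun _ : PUnit.{u + 1} => pullback p W.1.ι) (fun _ => p₁) ∈
        Scheme.fpqcTopology (W.1 : Scheme.{u}) := by
      refine DDFull.ofArrows_mem ?_
      rw [Presieve.ofArrows_pUnit]
      exact Scheme.Hom.singleton_mem_fpqcPrecoverage p₁
    refine (isRep_pull_iff (f' := fun _ : PUnit.{u + 1} => p₁) (α := fun _ => PUnit.unit) (p' := fun _ => p')
      (fun _ => pullback.condition) hcov).1 ?_
    exact isRep_of_radicial_affine p₁ ((SchDDFam.toSchDD p₁).obj (pullDDFamObj (f := fun _ : PUnit.{u + 1} => p)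
      (f' := fun _ : PUnit.{u + 1} => p₁) (α := fun _ => PUnit.unit) (p := W.1.ι) (p' := fun _ => p')
      (fun _ => pullback.condition) ((SchDDFam.ofSchDD p).obj D)))
  obtain ⟨U, ⟨e⟩⟩ := isEffective_of_isRep hrep
  exact ⟨U, ⟨(SchDDFam.toSchDD p).mapIso e⟩⟩

end GrothLib.SchEffective
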