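import Groth.Agent.Lib.SchEffective.Sheaf

/-!
# Base change and refinement of descent data

For a morphism of families `(α, q, p')` from a family `f'` over `S'` which covers in the fpqc topology,
elements of the pulled-back datum over `t` are the elements of `D` over `t ≫ q`.
-/

set_option autoImplicit false
set_option backward.isDefEq.respectTransparency false
set_option backward.isDefEq.respectTransparency.types false

universe u

open CategoryTheory CategoryTheory.Limits AlgebraicGeometry Desc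

namespace GrothLib.SchEffective

variable {S : Scheme.{u}} {ι : Type u} {X : ι → Scheme.{u}} {f : ∀ i, X i ⟶ S} {D : SchDDFam f}

/-- The functor of `D` is representable on schemes over `S'`. -/
def IsRepOver (D : SchDDFam f) {S' : Scheme.{u}} (q : S' ⟶ S) : Prop :=
  ∃ (N : Scheme.{u}) (ν : N ⟶ S') (n : Elt D (ν ≫ q)),
    ∀ ⦃T : Scheme.{u}⦄ (t : T ⟶ S') (a : Elt D (t ≫ q)), ∃! g : T ⟶ N, g ≫ ν = t ∧ IsRes n g a

theorem IsRes.cast {T M : Scheme.{u}} {μ : M ⟶ S} {t t' : T ⟶ S} {m : Elt D μ} {g : T ⟶ M} {a : Elt D t}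
    (h : IsRes m g a) (e : t = t') : IsRes m g (e ▸ a) := by
  subst e; exact h

theorem isRep_iff_isRepOver_id : IsRep D ↔ IsRepOver D (𝟙 S) := by
  refine ⟨fun ⟨M, μ, m, hm⟩ => ?_, fun ⟨N, ν, n, hn⟩ => ⟨N, ν ≫ 𝟙 S, n, fun T t a => ?_⟩⟩
  · refine ⟨M, μ, m.res (𝟙 M) ((Category.id_comp μ).trans (Category.comp_id μ).symm |>.symm ▸ rfl), fun T t a => ?_⟩
    obtain ⟨g, hg, hu⟩ := hm _ a
    refine ⟨g, ⟨hg.1.trans (Category.comp_id t), ?_⟩, fun g' hg' => hu g' ?_⟩
    · refine ⟨by rw [Category.comp_id, hg.1, Category.comp_id], fun T' i x s h h' => ?_⟩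
      rw [Elt.res_app _ _ _ x (s ≫ g) h' (by rw [Category.comp_id]; simpa using h')]
      exact (m.app_congr rfl (Category.comp_id _) _ (by simpa using h')).trans (hg.2 x s h _)
    · refine ⟨by rw [hg'.1, Category.comp_id], fun T' i x s h h' => ?_⟩
      have h'' : x ≫ f i = (s ≫ g') ≫ μ ≫ 𝟙 S := by rw [Category.comp_id]; exact h'
      refine Eq.trans ?_ (hg'.2.2 x s h h'')
      rw [Elt.res_app _ _ _ x (s ≫ g') h'' (by rw [Category.comp_id]; exact h')]
      exact m.app_congr rfl (Category.comp_id _).symm _ _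
  · obtain ⟨g, hg, hu⟩ := hn (t := t) (a.res (𝟙 T) (by rw [Category.id_comp, Category.comp_id]))
    refine ⟨g, ?_, fun g' hg' => hu g' ?_⟩
    · refine ⟨by rw [← Category.assoc, hg.1, Category.comp_id], fun T' i x s h h' => ?_⟩
      rw [hg.2.2 x s (by rw [Category.comp_id]; exact h) h', Elt.res_app _ _ _ x s _ (by rw [Category.comp_id]; exact h)]
      exact a.app_congr rfl (Category.comp_id _) _ _
    · have e : g' ≫ ν = t := by have := hg'.1; rwa [Category.comp_id] at this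
      refine ⟨e, by rw [← Category.assoc, e], fun T' i x s h h' => ?_⟩
      have h0 : x ≫ f i = s ≫ t := by rw [h, Category.comp_id]
      rw [hg'.2 x s h0 h', Elt.res_app _ _ _ x s h (by rw [Category.comp_id]; exact h0)]
      exact a.app_congr rfl (Category.comp_id _).symm _ _

variable {S' : Scheme.{u}} {ι' : Type u} {X' : ι' → Scheme.{u}} {f' : ∀ j, X' j ⟶ S'}
  {α : ι' → ι} {q : S' ⟶ S} {p' : ∀ j, X' j ⟶ X (α j)} (w : ∀ j, p' j ≫ f (α j) = f' j ≫ q)

include w in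
lemma pull_cond {T' T : Scheme.{u}} {t : T ⟶ S'} {j : ι'} {x : T' ⟶ X' j} {s : T' ⟶ T}
    (h : x ≫ f' j = s ≫ t) : (x ≫ p' j) ≫ f (α j) = s ≫ t ≫ q := by
  rw [Category.assoc, w, ← Category.assoc, h, Category.assoc]

/-- Pullback of elements. -/
noncomputable def Elt.pull {T : Scheme.{u}} {t : T ⟶ S'} (a : Elt D (t ≫ q)) :
    Elt (pullDDFamObj w D) t :=
  Elt.ofFun (fun T' j x s h => (liftsPullbackEquiv (D.obj (α j)) (p' j) x).symm (a.app (x ≫ p' j) s (pull_cond w h)))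
    (fun T' T'' k j x s h x' s' hx hs h' => by
      subst hx hs
      refine pullback.hom_ext ?_ ?_
      · refine (pullback.lift_fst _ _ _).trans ?_
        refine Eq.trans ?_ (Category.assoc _ _ _).symm
        refine Eq.trans ?_ (congrArg (k ≫ ·) (pullback.lift_fst _ _ _).symm)
        exact (a.app_congr (Category.assoc _ _ _) rfl _
          (by rw [Category.assoc, pull_cond w h, Category.assoc])).trans (a.app_natural k (x ≫ p' j) s _ _)
      · refine (pullback.lift_snd _ _ _).trans ?_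
        refine Eq.trans ?_ (Category.assoc _ _ _).symm
        exact (congrArg (k ≫ ·) (pullback.lift_snd _ _ _)).symm)
    (fun T' j j' x y s hx hy => by
      refine congrArg Subtype.val ?_
      simp only [pullDDFamObj, Equiv.trans_apply, Equiv.apply_symm_apply]
      rw [a.φ_app (x ≫ p' j) (y ≫ p' j') s (pull_cond w hx) (pull_cond w hy)])

theorem Elt.pull_app_fst {T : Scheme.{u}} {t : T ⟶ S'} (a : Elt D (t ≫ q)) {T' : Scheme.{u}} {j : ι'}
    (x : T' ⟶ X' j) (s : T' ⟶ T) (h : x ≫ f' j = s ≫ t) :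
    ((a.pull w).app x s h).1 ≫ pullback.fst (D.obj (α j)).hom (p' j) = (a.app (x ≫ p' j) s (pull_cond w h)).1 := by
  rw [Elt.pull, Elt.ofFun_app]
  exact pullback.lift_fst _ _ _

theorem Elt.pull_isRes {T M : Scheme.{u}} {t : T ⟶ S'} {μ : M ⟶ S'} {m : Elt D (μ ≫ q)} {a : Elt D (t ≫ q)}
    {g : T ⟶ M} (hg : g ≫ μ = t) (h : IsRes m g a) : IsRes (m.pull w) g (a.pull w) := by
  refine ⟨hg, fun T' j x s hh hh' => pullback.hom_ext ?_ ?_⟩
  · exact (m.pull_app_fst w x (s ≫ g) hh').trans ((h.2 (x ≫ p' j) s (pull_cond w hh) (pull_cond w hh')).trans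
      (a.pull_app_fst w x s hh).symm)
  · exact ((m.pull w).app x (s ≫ g) hh').2.trans ((a.pull w).app x s hh).2.symm

/-- Elements of the pulled-back datum come uniquely from elements of `D`. -/
theorem Elt.pull_bijective (hf' : Sieve.ofArrows X' f' ∈ Scheme.fpqcTopology S') {T : Scheme.{u}} (t : T ⟶ S') :
    Function.Bijective (Elt.pull (D := D) (t := t) w) := by
  have cov : ∀ {T' : Scheme.{u}} (s : T' ⟶ T), (Sieve.ofArrows X' f').pullback (s ≫ t) ∈ Scheme.fpqcTopology T' :=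
    fun s => Scheme.fpqcTopology.pullback_stable _ hf'
  refine ⟨fun a a' he => Elt.ext' fun T' i x s h => DDFull.hom_ext (cov s) fun T'' r hr => ?_, fun b => ?_⟩
  · obtain ⟨j, y, hy⟩ := (Sieve.mem_ofArrows_iff _ _ _).1 hr
    have hy' : y ≫ f' j = (r ≫ s) ≫ t := by rw [Category.assoc]; exact hy.symm
    have hx : (r ≫ x) ≫ f i = (r ≫ s) ≫ t ≫ q := by rw [Category.assoc, h, Category.assoc]
    have key : (a.app (y ≫ p' j) (r ≫ s) (pull_cond w hy')).1 = (a'.app (y ≫ p' j) (r ≫ s) (pull_cond w hy')).1 := by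
      rw [← a.pull_app_fst w y (r ≫ s) hy', ← a'.pull_app_fst w y (r ≫ s) hy', he]
    rw [← a.app_natural r x s h hx, ← a'.app_natural r x s h hx,
      ← a.φ_app (y ≫ p' j) (r ≫ x) (r ≫ s) (pull_cond w hy') hx ((pull_cond w hy').trans hx.symm),
      ← a'.φ_app (y ≫ p' j) (r ≫ x) (r ≫ s) (pull_cond w hy') hx ((pull_cond w hy').trans hx.symm), Subtype.ext key]
  · let P := pullDDFamObj w D
    let up : ∀ ⦃T' : Scheme.{u}⦄ ⦃j : ι'⦄ (y : T' ⟶ X' j) (s : T' ⟶ T), y ≫ f' j = s ≫ t →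
        Lifts (D.obj (α j)) (y ≫ p' j) :=
      fun T' j y s h => liftsPullbackEquiv (D.obj (α j)) (p' j) y (b.app y s h)
    have upnat : ∀ ⦃T' T'' : Scheme.{u}⦄ (k : T'' ⟶ T') ⦃j : ι'⦄ (y : T' ⟶ X' j) (s : T' ⟶ T) (h : y ≫ f' j = s ≫ t)
        (h' : (k ≫ y) ≫ f' j = (k ≫ s) ≫ t), (up (k ≫ y) (k ≫ s) h').1 = k ≫ (up y s h).1 := fun T' T'' k j y s h h' =>
      (congrArg (· ≫ pullback.fst (D.obj (α j)).hom (p' j)) (b.app_natural k y s h h')).trans (Category.assoc _ _ _)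
    have upφ : ∀ ⦃T' : Scheme.{u}⦄ ⦃j j' : ι'⦄ (y : T' ⟶ X' j) (y' : T' ⟶ X' j') (s : T' ⟶ T)
        (h : y ≫ f' j = s ≫ t) (h' : y' ≫ f' j' = s ≫ t) (hh : (y ≫ p' j) ≫ f (α j) = (y' ≫ p' j') ≫ f (α j')),
        D.φ (y ≫ p' j) (y' ≫ p' j') hh (up y s h) = up y' s h' := fun T' j j' y y' s h h' hh => by
      have := congrArg (liftsPullbackEquiv (D.obj (α j')) (p' j') y') (b.φ_app y y' s h h' (h.trans h'.symm))
      simp only [pullDDFamObj, Equiv.trans_apply, Equiv.apply_symm_apply] at this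
      exact this
    have ex : ∀ (T' : Scheme.{u}) (i : ι) (x : T' ⟶ X i) (s : T' ⟶ T) (_ : x ≫ f i = s ≫ t ≫ q),
        ∃ c : Lifts (D.obj i) x, ∀ ⦃T'' : Scheme.{u}⦄ ⦃j : ι'⦄ (r : T'' ⟶ T') (y : T'' ⟶ X' j)
          (hy : y ≫ f' j = (r ≫ s) ≫ t) (hh : (y ≫ p' j) ≫ f (α j) = (r ≫ x) ≫ f i),
          r ≫ c.1 = (D.φ (y ≫ p' j) (r ≫ x) hh (up y (r ≫ s) hy)).1 := by
      intro T' i x s h
      have hx : ∀ {T'' : Scheme.{u}} (r : T'' ⟶ T'), (r ≫ x) ≫ f i = (r ≫ s) ≫ t ≫ q := fun r => by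
        rw [Category.assoc, h, Category.assoc]
      obtain ⟨c, hc⟩ := DDFull.exists_glue (W := (D.obj i).left) (cov s)
        (fun T'' r v => ∃ (j : ι') (y : T'' ⟶ X' j) (hy : y ≫ f' j = (r ≫ s) ≫ t),
          v = (D.φ (y ≫ p' j) (r ≫ x) ((pull_cond w hy).trans (hx r).symm) (up y (r ≫ s) hy)).1)
        (fun T'' r hr => by
          obtain ⟨j, y, hy⟩ := (Sieve.mem_ofArrows_iff _ _ _).1 hr
          exact ⟨_, j, y, by rw [Category.assoc]; exact hy.symm, rfl⟩)
        (fun T'' r v ⟨j, y, hy, _⟩ => (Sieve.mem_ofArrows_iff _ _ _).2 ⟨j, y, by rw [hy, Category.assoc]⟩)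
        (by
          rintro T'' r v v' ⟨j, y, hy, rfl⟩ ⟨j', y', hy', rfl⟩
          have hh := (pull_cond w hy).trans (pull_cond w hy').symm
          rw [← upφ y y' (r ≫ s) hy hy' hh, D.φ_comp])
        (by
          rintro T₂ T₃ k r v ⟨j, y, hy, rfl⟩
          refine ⟨j, k ≫ y, by rw [Category.assoc, hy]; simp only [Category.assoc], ?_⟩
          refine (D.φ_natural k (y ≫ p' j) (r ≫ x) _ _ _ (Category.assoc _ _ _).symm (Category.assoc _ _ _).symm _ _ _ ?_).symm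
          exact (congrArg (fun v : Lifts _ _ => v.1 ≫ pullback.fst (D.obj (α j)).hom (p' j))
            (Subtype.ext ((b.app_congr rfl (Category.assoc _ _ _) _
              (by rw [Category.assoc, hy]; simp only [Category.assoc])).trans rfl))).trans (upnat k y (r ≫ s) hy _))
      refine ⟨⟨c, DDFull.hom_ext (cov s) fun T'' r hr => ?_⟩,
        fun T'' j r y hy hh => hc r _ ⟨j, y, hy, rfl⟩⟩
      obtain ⟨j, y, hy⟩ := (Sieve.mem_ofArrows_iff _ _ _).1 hr
      rw [← Category.assoc, hc r _ ⟨j, y, by rw [Category.assoc]; exact hy.symm, rfl⟩, (D.φ _ _ _ _).2]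
    choose v hv using ex
    have hxs : ∀ {T' T'' : Scheme.{u}} {i : ι} (r : T'' ⟶ T') {x : T' ⟶ X i} {s : T' ⟶ T},
        x ≫ f i = s ≫ t ≫ q → (r ≫ x) ≫ f i = (r ≫ s) ≫ t ≫ q := fun {T'} {T''} {i} r {x} {s} h => by
      rw [Category.assoc, h, Category.assoc]
    refine ⟨Elt.ofFun (fun T' i x s h => v T' i x s h) ?_ ?_, Elt.ext' fun T' j x s h => ?_⟩
    · intro T' T'' k i x s h x' s' ex es h'
      subst ex es
      refine DDFull.hom_ext (cov (k ≫ s)) fun T₃ r hr => ?_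
      obtain ⟨j, y, hy⟩ := (Sieve.mem_ofArrows_iff _ _ _).1 hr
      have hy1 : y ≫ f' j = (r ≫ k ≫ s) ≫ t := by rw [Category.assoc]; exact hy.symm
      have hy2 : y ≫ f' j = ((r ≫ k) ≫ s) ≫ t := by rw [hy1, Category.assoc r k s]
      rw [hv _ _ _ _ h' r y hy1 ((pull_cond w hy1).trans (hxs r h').symm), ← Category.assoc r k (v T' i x s h).1,
        hv _ _ _ _ h (r ≫ k) y hy2 ((pull_cond w hy2).trans (hxs (r ≫ k) h).symm)]
      refine φ_congr D rfl (Category.assoc _ _ _).symm _ _ ?_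
      exact congrArg (· ≫ pullback.fst (D.obj (α j)).hom (p' j)) (b.app_congr rfl (Category.assoc _ _ _).symm _ _)
    · intro T' i i' x x' s hx hx'
      refine DDFull.hom_ext (cov s) fun T₃ r hr => ?_
      obtain ⟨j, y, hy⟩ := (Sieve.mem_ofArrows_iff _ _ _).1 hr
      have hy1 : y ≫ f' j = (r ≫ s) ≫ t := by rw [Category.assoc]; exact hy.symm
      have e := (hxs r hx).trans (hxs r hx').symm
      rw [hv _ _ _ _ hx' r y hy1 ((pull_cond w hy1).trans (hxs r hx').symm),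
        ← D.φ_natural r x x' _ (r ≫ x) (r ≫ x') rfl rfl e (v T' i x s hx)
          (D.φ (y ≫ p' j) (r ≫ x) ((pull_cond w hy1).trans (hxs r hx).symm) (up y (r ≫ s) hy1))
          (hv _ _ _ _ hx r y hy1 _).symm, D.φ_comp]
    · refine pullback.hom_ext ?_ (((Elt.ofFun _ _ _).pull w).app x s h |>.2.trans (b.app x s h).2.symm)
      rw [Elt.pull_app_fst, Elt.ofFun_app]
      have h1 : x ≫ f' j = (𝟙 T' ≫ s) ≫ t := by rw [Category.id_comp]; exact h
      refine ((Category.id_comp _).symm.trans (hv _ _ _ _ (pull_cond w h) (𝟙 T') x h1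
        (by rw [Category.id_comp]))).trans ?_
      refine (φ_congr D rfl (Category.id_comp _) _ rfl (q := up x (𝟙 T' ≫ s) h1) rfl).trans ?_
      rw [D.φ_self]
      exact congrArg (· ≫ pullback.fst (D.obj (α j)).hom (p' j)) (b.app_congr rfl (Category.id_comp s) _ _)

/-- Representability passes to the pulled-back datum and back. -/
theorem isRep_pull_iff (hf' : Sieve.ofArrows X' f' ∈ Scheme.fpqcTopology S') :
    IsRep (pullDDFamObj w D) ↔ IsRepOver D q := by
  have key : ∀ {T M : Scheme.{u}} {t : T ⟶ S'} {μ : M ⟶ S'} {m : Elt D (μ ≫ q)} {a : Elt D (t ≫ q)}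
      {g : T ⟶ M}, IsRes (m.pull w) g (a.pull w) → g ≫ μ = t ∧ IsRes m g a := by
    intro T M t μ m a g h
    have h0 : g ≫ μ ≫ q = t ≫ q := by rw [← Category.assoc, h.1]
    have h1 := Elt.pull_isRes w h.1 (m.isRes_res g h0)
    have := (Elt.pull_bijective (D := D) w hf' t).1 (h.eq.trans h1.eq.symm)
    exact ⟨h.1, this ▸ m.isRes_res g h0⟩
  constructor
  · rintro ⟨N, ν, n', hn⟩
    obtain ⟨n, rfl⟩ := (Elt.pull_bijective (D := D) w hf' ν).2 n'
    refine ⟨N, ν, n, fun T t a => ?_⟩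
    obtain ⟨g, hg, hu⟩ := hn t (a.pull w)
    exact ⟨g, key hg, fun g' hg' => hu g' (Elt.pull_isRes w hg'.1 hg'.2)⟩
  · rintro ⟨N, ν, n, hn⟩
    refine ⟨N, ν, n.pull w, fun T t b => ?_⟩
    obtain ⟨a, rfl⟩ := (Elt.pull_bijective (D := D) w hf' t).2 b
    obtain ⟨g, hg, hu⟩ := hn t a
    exact ⟨g, Elt.pull_isRes w hg.1 hg.2, fun g' hg' => hu g' (key hg')⟩

/-- A datum relative to a family with a section is representable. -/
theorem isRep_of_section {i₀ : ι} (σ : S ⟶ X i₀) (hσ : σ ≫ f i₀ = 𝟙 S) : IsRep D := by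
  let μ := pullback.snd (D.obj i₀).hom σ
  let v : Lifts (D.obj i₀) (μ ≫ σ) := ⟨pullback.fst (D.obj i₀).hom σ, pullback.condition⟩
  let m : Elt D μ := (Elt.ofPoint (D := D) (μ ≫ σ) v).res (𝟙 _) (by rw [Category.id_comp, Category.assoc, hσ, Category.comp_id])
  have hm : ∀ ⦃T : Scheme.{u}⦄ ⦃i : ι⦄ (x : T ⟶ X i) (s : T ⟶ pullback (D.obj i₀).hom σ) (h : x ≫ f i = s ≫ μ),
      (m.app x s h).1 = (D.φ (s ≫ μ ≫ σ) x (by rw [h, Category.assoc, Category.assoc, hσ, Category.comp_id])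
        ⟨s ≫ v.1, by rw [Category.assoc, v.2]⟩).1 := fun T i x s h => by
    rw [Elt.res_app _ _ _ x s h (by rw [h, Category.comp_id, Category.assoc μ, hσ, Category.comp_id]), Elt.ofPoint_app]
    exact φ_congr D (by rw [Category.comp_id]) rfl _ _ (by rw [Category.comp_id])
  refine ⟨_, μ, m, fun T t a => ?_⟩
  have h0 : (t ≫ σ) ≫ f i₀ = 𝟙 T ≫ t := by rw [Category.assoc, hσ, Category.comp_id, Category.id_comp]
  let g : T ⟶ pullback (D.obj i₀).hom σ := pullback.lift (a.app (t ≫ σ) (𝟙 T) h0).1 t (a.app (t ≫ σ) (𝟙 T) h0).2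
  refine ⟨g, ⟨pullback.lift_snd _ _ _, fun T' i x s h h' => ?_⟩, fun g' hg' => ?_⟩
  · have hs : (s ≫ t ≫ σ) ≫ f i₀ = s ≫ t := by
      rw [Category.assoc, Category.assoc t, hσ, Category.comp_id]
    rw [hm x (s ≫ g) h', ← a.φ_app (s ≫ t ≫ σ) x s hs h (hs.trans h.symm)]
    refine φ_congr D ?_ rfl _ _ ?_
    · rw [Category.assoc, ← Category.assoc g μ σ, pullback.lift_snd]
    · change (s ≫ g) ≫ pullback.fst (D.obj i₀).hom σ = _
      rw [Category.assoc, pullback.lift_fst]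
      exact ((a.app_natural s (t ≫ σ) (𝟙 T) h0 (by rw [Category.comp_id]; exact hs)).symm.trans
        (a.app_congr rfl (Category.comp_id s) _ _))
  · refine pullback.hom_ext ?_ (hg'.1.trans (pullback.lift_snd _ _ _).symm)
    rw [pullback.lift_fst, ← hg'.2 (t ≫ σ) (𝟙 T) h0 (by rw [Category.id_comp, hg'.1, Category.assoc, hσ, Category.comp_id]),
      hm]
    refine Eq.trans ?_ (φ_congr D (p := ⟨g' ≫ v.1, by rw [Category.assoc, v.2]⟩) (by rw [Category.id_comp]) rfl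
      (by rw [← Category.assoc g', hg'.1]) _ (by rw [Category.id_comp]))
    exact ((φ_congr D rfl (by rw [← Category.assoc, hg'.1]) _ rfl rfl).trans (by rw [D.φ_self])).symm

end GrothLib.SchEffective
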