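import Groth.Agent.Lib.DDFull.Basic

/-!
# Descent data for schemes as functors on schemes over the base

For a descent datum `D` relative to a family `f`, `Elt D t` is the set of morphisms from the canonical datum of
`t : T ⟶ S` to `D`. A representing object for this functor makes `D` effective, with no hypothesis on `f`.
-/

set_option autoImplicit false
set_option backward.isDefEq.respectTransparency false
set_option backward.isDefEq.respectTransparency.types false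

universe u

open CategoryTheory CategoryTheory.Limits AlgebraicGeometry Desc

namespace GrothLib.SchEffective

variable {S : Scheme.{u}} {ι : Type u} {X : ι → Scheme.{u}} {f : ∀ i, X i ⟶ S}

lemma φ_congr (D : SchDDFam f) {T : Scheme.{u}} {i j : ι} {x₀ y₀ : T ⟶ X i} {x₁ y₁ : T ⟶ X j}
    (h₀ : x₀ = y₀) (h₁ : x₁ = y₁) (h : x₀ ≫ f i = x₁ ≫ f j) (h' : y₀ ≫ f i = y₁ ≫ f j)
    {p : Lifts (D.obj i) x₀} {q : Lifts (D.obj i) y₀} (hpq : p.1 = q.1) :
    (D.φ x₀ x₁ h p).1 = (D.φ y₀ y₁ h' q).1 := by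
  subst h₀ h₁
  rw [Subtype.ext hpq]

/-- Morphisms from the canonical descent datum of `t : T ⟶ S` to `D`. -/
structure Elt (D : SchDDFam f) {T : Scheme.{u}} (t : T ⟶ S) where
  /-- the components -/
  a : ∀ i, pullback (f i) t ⟶ (D.obj i).left
  hom : ∀ i, a i ≫ (D.obj i).hom = pullback.fst (f i) t
  compat : ∀ ⦃T' : Scheme.{u}⦄ ⦃i j : ι⦄ (x : T' ⟶ X i) (y : T' ⟶ X j) (s : T' ⟶ T) (hx : x ≫ f i = s ≫ t)
    (hy : y ≫ f j = s ≫ t),
    (D.φ x y (hx.trans hy.symm) ⟨pullback.lift x s hx ≫ a i, by rw [Category.assoc, hom, pullback.lift_fst]⟩).1 =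
      pullback.lift y s hy ≫ a j

variable {D : SchDDFam f} {T : Scheme.{u}} {t : T ⟶ S}

/-- Value of an element at a point. -/
noncomputable def Elt.app (e : Elt D t) {T' : Scheme.{u}} {i : ι} (x : T' ⟶ X i) (s : T' ⟶ T)
    (h : x ≫ f i = s ≫ t) : Lifts (D.obj i) x :=
  ⟨pullback.lift x s h ≫ e.a i, by rw [Category.assoc, e.hom, pullback.lift_fst]⟩

theorem Elt.app_congr (e : Elt D t) {T' : Scheme.{u}} {i : ι} {x x' : T' ⟶ X i} {s s' : T' ⟶ T}
    (hx : x = x') (hs : s = s') (h : x ≫ f i = s ≫ t) (h' : x' ≫ f i = s' ≫ t) :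
    (e.app x s h).1 = (e.app x' s' h').1 := by
  subst hx hs; rfl

theorem Elt.φ_app (e : Elt D t) {T' : Scheme.{u}} {i j : ι} (x : T' ⟶ X i) (y : T' ⟶ X j) (s : T' ⟶ T)
    (hx : x ≫ f i = s ≫ t) (hy : y ≫ f j = s ≫ t) (hxy : x ≫ f i = y ≫ f j) :
    D.φ x y hxy (e.app x s hx) = e.app y s hy := Subtype.ext (e.compat x y s hx hy)

theorem Elt.app_natural (e : Elt D t) {T' T'' : Scheme.{u}} (k : T'' ⟶ T') {i : ι} (x : T' ⟶ X i)
    (s : T' ⟶ T) (h : x ≫ f i = s ≫ t) (h' : (k ≫ x) ≫ f i = (k ≫ s) ≫ t) :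
    (e.app (k ≫ x) (k ≫ s) h').1 = k ≫ (e.app x s h).1 := by
  refine Eq.trans ?_ (Category.assoc _ _ _)
  exact congrArg (· ≫ e.a i) (pullback.hom_ext (by simp) (by simp))

theorem Elt.ext' {e e' : Elt D t}
    (h : ∀ ⦃T' : Scheme.{u}⦄ ⦃i : ι⦄ (x : T' ⟶ X i) (s : T' ⟶ T) (hh : x ≫ f i = s ≫ t),
      (e.app x s hh).1 = (e'.app x s hh).1) : e = e' := by
  have ha : e.a = e'.a := funext fun i => by
    have := h (pullback.fst (f i) t) (pullback.snd (f i) t) pullback.condition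
    simp only [Elt.app] at this
    rw [show pullback.lift (pullback.fst (f i) t) (pullback.snd (f i) t) pullback.condition = 𝟙 _ from
      pullback.hom_ext (by simp) (by simp), Category.id_comp, Category.id_comp] at this
    exact this
  cases e; cases e'; cases ha; rfl

/-- An element from a natural compatible family of lifts. -/
noncomputable def Elt.ofFun
    (v : ∀ ⦃T' : Scheme.{u}⦄ ⦃i : ι⦄ (x : T' ⟶ X i) (s : T' ⟶ T), x ≫ f i = s ≫ t → Lifts (D.obj i) x)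
    (nat : ∀ ⦃T' T'' : Scheme.{u}⦄ (k : T'' ⟶ T') ⦃i : ι⦄ (x : T' ⟶ X i) (s : T' ⟶ T) (h : x ≫ f i = s ≫ t)
      (x' : T'' ⟶ X i) (s' : T'' ⟶ T) (_ : k ≫ x = x') (_ : k ≫ s = s') (h' : x' ≫ f i = s' ≫ t),
      (v x' s' h').1 = k ≫ (v x s h).1)
    (comp : ∀ ⦃T' : Scheme.{u}⦄ ⦃i j : ι⦄ (x : T' ⟶ X i) (y : T' ⟶ X j) (s : T' ⟶ T) (hx : x ≫ f i = s ≫ t)
      (hy : y ≫ f j = s ≫ t), (D.φ x y (hx.trans hy.symm) (v x s hx)).1 = (v y s hy).1) : Elt D t where
  a i := (v (pullback.fst (f i) t) (pullback.snd (f i) t) pullback.condition).1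
  hom i := (v (pullback.fst (f i) t) (pullback.snd (f i) t) pullback.condition).2
  compat T' i j x y s hx hy := by
    refine Eq.trans ?_ ((comp x y s hx hy).trans
      (nat (pullback.lift y s hy) _ _ pullback.condition y s (pullback.lift_fst _ _ _) (pullback.lift_snd _ _ _) hy))
    refine φ_congr D rfl rfl _ _ ?_
    exact (nat (pullback.lift x s hx) _ _ pullback.condition x s (pullback.lift_fst _ _ _)
      (pullback.lift_snd _ _ _) hx).symm

theorem Elt.ofFun_app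
    (v : ∀ ⦃T' : Scheme.{u}⦄ ⦃i : ι⦄ (x : T' ⟶ X i) (s : T' ⟶ T), x ≫ f i = s ≫ t → Lifts (D.obj i) x)
    (nat : ∀ ⦃T' T'' : Scheme.{u}⦄ (k : T'' ⟶ T') ⦃i : ι⦄ (x : T' ⟶ X i) (s : T' ⟶ T) (h : x ≫ f i = s ≫ t)
      (x' : T'' ⟶ X i) (s' : T'' ⟶ T) (_ : k ≫ x = x') (_ : k ≫ s = s') (h' : x' ≫ f i = s' ≫ t),
      (v x' s' h').1 = k ≫ (v x s h).1)
    (comp : ∀ ⦃T' : Scheme.{u}⦄ ⦃i j : ι⦄ (x : T' ⟶ X i) (y : T' ⟶ X j) (s : T' ⟶ T) (hx : x ≫ f i = s ≫ t)
      (hy : y ≫ f j = s ≫ t), (D.φ x y (hx.trans hy.symm) (v x s hx)).1 = (v y s hy).1)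
    {T' : Scheme.{u}} {i : ι} (x : T' ⟶ X i) (s : T' ⟶ T) (h : x ≫ f i = s ≫ t) :
    ((Elt.ofFun v nat comp).app x s h).1 = (v x s h).1 :=
  (nat (pullback.lift x s h) _ _ pullback.condition x s (pullback.lift_fst _ _ _) (pullback.lift_snd _ _ _) h).symm

/-- `a` is the restriction of `m` along `g`. -/
def IsRes {M : Scheme.{u}} {μ : M ⟶ S} (m : Elt D μ) (g : T ⟶ M) (a : Elt D t) : Prop :=
  g ≫ μ = t ∧ ∀ ⦃T' : Scheme.{u}⦄ ⦃i : ι⦄ (x : T' ⟶ X i) (s : T' ⟶ T) (h : x ≫ f i = s ≫ t)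
    (h' : x ≫ f i = (s ≫ g) ≫ μ), (m.app x (s ≫ g) h').1 = (a.app x s h).1

/-- Restriction of an element. -/
noncomputable def Elt.res {M : Scheme.{u}} {μ : M ⟶ S} (m : Elt D μ) (g : T ⟶ M) (hg : g ≫ μ = t) : Elt D t :=
  Elt.ofFun (fun T' i x s h => m.app x (s ≫ g) (by rw [h, Category.assoc, hg]))
    (fun T' T'' k i x s h x' s' hx hs h' => by
      subst hx hs
      exact (m.app_congr rfl (Category.assoc _ _ _) _ (by rw [Category.assoc, h, Category.assoc, Category.assoc, hg])).trans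
        (m.app_natural k x (s ≫ g) _ _))
    (fun T' i j x y s hx hy => congrArg Subtype.val (m.φ_app x y _ _ _ _))

theorem Elt.isRes_res {M : Scheme.{u}} {μ : M ⟶ S} (m : Elt D μ) (g : T ⟶ M) (hg : g ≫ μ = t) :
    IsRes m g (m.res g hg) := by
  refine ⟨hg, fun T' i x s h h' => ?_⟩
  rw [Elt.res, Elt.ofFun_app]

theorem IsRes.eq {M : Scheme.{u}} {μ : M ⟶ S} {m : Elt D μ} {g : T ⟶ M} {a : Elt D t} (h : IsRes m g a) :
    a = m.res g h.1 := Elt.ext' fun T' i x s hh => by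
  rw [← h.2 x s hh (by rw [hh, Category.assoc, h.1]), Elt.res, Elt.ofFun_app]

theorem IsRes.comp {M : Scheme.{u}} {μ : M ⟶ S} {m : Elt D μ} {g : T ⟶ M} {a : Elt D t} (h : IsRes m g a)
    {T₁ : Scheme.{u}} {t₁ : T₁ ⟶ S} {k : T₁ ⟶ T} {b : Elt D t₁} (h₁ : IsRes a k b) : IsRes m (k ≫ g) b := by
  refine ⟨by rw [Category.assoc, h.1, h₁.1], fun T' i x s hh hh' => ?_⟩
  have e1 : x ≫ f i = (s ≫ k) ≫ t := by rw [hh, Category.assoc, h₁.1]
  refine (m.app_congr rfl (Category.assoc _ _ _).symm hh' (by rw [e1, Category.assoc (s ≫ k), h.1])).trans ?_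
  rw [h.2 x (s ≫ k) e1, h₁.2 x s hh e1]

theorem isRes_id (a : Elt D t) : IsRes a (𝟙 T) a :=
  ⟨Category.id_comp t, fun T' i x s h h' => a.app_congr rfl (Category.comp_id s) _ _⟩

/-- `m` is universal. -/
def IsUniversal {M : Scheme.{u}} {μ : M ⟶ S} (m : Elt D μ) : Prop :=
  ∀ ⦃T : Scheme.{u}⦄ (t : T ⟶ S) (a : Elt D t), ∃! g : T ⟶ M, IsRes m g a

/-- The functor of `D` is representable. -/
def IsRep (D : SchDDFam f) : Prop :=
  ∃ (M : Scheme.{u}) (μ : M ⟶ S) (m : Elt D μ), IsUniversal m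

/-- A point of `D` gives an element. -/
noncomputable def Elt.ofPoint {T : Scheme.{u}} {i : ι} (x : T ⟶ X i) (v : Lifts (D.obj i) x) :
    Elt D (x ≫ f i) :=
  Elt.ofFun (fun T' j y s h => D.φ (s ≫ x) y (by rw [Category.assoc]; exact h.symm)
      ⟨s ≫ v.1, by rw [Category.assoc, v.2]⟩)
    (fun T' T'' k j y s h y' s' hy hs h' => by
      subst hy hs
      exact D.φ_natural k (s ≫ x) y _ _ _ (Category.assoc _ _ _).symm rfl _ _ _ (Category.assoc _ _ _))
    (fun T' j j' y y' s hy hy' => congrArg Subtype.val (D.φ_comp _ _ _ _ _ _))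

theorem Elt.ofPoint_app {T : Scheme.{u}} {i : ι} (x : T ⟶ X i) (v : Lifts (D.obj i) x) {T' : Scheme.{u}} {j : ι}
    (y : T' ⟶ X j) (s : T' ⟶ T) (h : y ≫ f j = s ≫ x ≫ f i) :
    ((Elt.ofPoint x v).app y s h).1 = (D.φ (s ≫ x) y (by rw [Category.assoc]; exact h.symm)
      ⟨s ≫ v.1, by rw [Category.assoc, v.2]⟩).1 := by
  rw [Elt.ofPoint, Elt.ofFun_app]

/-- The data exhibiting `M` as the descended scheme of `D`. -/
theorem exists_descended {M : Scheme.{u}} {μ : M ⟶ S} {m : Elt D μ} (hm : IsUniversal m) :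
    ∃ e : ∀ i, (D.obj i).left ⟶ M,
      (∀ i, e i ≫ μ = (D.obj i).hom ≫ f i) ∧
      (∀ ⦃T' : Scheme.{u}⦄ ⦃i : ι⦄ (x : T' ⟶ X i) (v : Lifts (D.obj i) x) (h : x ≫ f i = (v.1 ≫ e i) ≫ μ),
        (m.app x (v.1 ≫ e i) h).1 = v.1) ∧
      (∀ ⦃T' : Scheme.{u}⦄ ⦃i : ι⦄ (x : T' ⟶ X i) (s : T' ⟶ M) (h : x ≫ f i = s ≫ μ),
        (m.app x s h).1 ≫ e i = s) := by
  choose e he heu using fun i => hm ((D.obj i).hom ≫ f i)
    (Elt.ofPoint (D.obj i).hom ⟨𝟙 _, Category.id_comp _⟩)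
  refine ⟨e, fun i => (he i).1, fun T' i x v h => ?_, fun T' i x s h => ?_⟩
  · have hv : x ≫ f i = v.1 ≫ (D.obj i).hom ≫ f i := by rw [← Category.assoc, v.2]
    rw [(he i).2 x v.1 hv h, Elt.ofPoint_app]
    refine (φ_congr D v.2 rfl _ rfl (q := v) (Category.comp_id _)).trans ?_
    rw [D.φ_self]
  · set w := m.app x s h
    have ht : x ≫ f i = w.1 ≫ (D.obj i).hom ≫ f i := by rw [← Category.assoc, w.2]
    let a := Elt.ofPoint (D := D) x w
    have h1 : IsRes m s a := by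
      refine ⟨h.symm, fun T'' j y r hy hy' => ?_⟩
      rw [Elt.ofPoint_app]
      have hr : (r ≫ x) ≫ f i = (r ≫ s) ≫ μ := by rw [Category.assoc, h, Category.assoc]
      rw [← m.φ_app (r ≫ x) y (r ≫ s) hr hy' (hr.trans hy'.symm)]
      exact φ_congr D rfl rfl _ _ (m.app_natural r x s h hr)
    have h2 : IsRes m (w.1 ≫ e i) a := by
      refine (he i).comp ⟨ht.symm, fun T'' j y r hy hy' => ?_⟩
      rw [Elt.ofPoint_app, Elt.ofPoint_app]
      exact φ_congr D (by rw [Category.assoc, w.2]) rfl _ _ (Category.comp_id _)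
    exact (hm _ a).unique h2 h1

/-- A representable descent datum is effective. -/
theorem isEffective_of_isRep (hD : IsRep D) : D.IsEffective := by
  obtain ⟨M, μ, m, hm⟩ := hD
  obtain ⟨e, heμ, h1, h2⟩ := exists_descended hm
  have hsq : ∀ i, (D.obj i).hom ≫ f i = e i ≫ μ := fun i => (heμ i).symm
  refine ⟨Over.mk μ, ⟨?_⟩⟩
  refine
    { hom := ⟨fun i => Over.homMk (m.a i) (m.hom i), fun T i j x₀ x₁ h v w hw => ?_⟩
      inv := ⟨fun i => Over.homMk (pullback.lift (D.obj i).hom (e i) (hsq i)) (pullback.lift_fst _ _ _),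
        fun T i j x₀ x₁ h v w hw => ?_⟩
      hom_inv_id := ?_
      inv_hom_id := ?_ }
  · change (D.φ x₀ x₁ h w).1 = _ ≫ m.a j
    have hx : x₀ ≫ f i = (v.1 ≫ pullback.snd (f i) μ) ≫ μ := by
      refine (congrArg (· ≫ f i) v.2).symm.trans ?_
      refine (Category.assoc _ _ _).trans ?_
      exact (congrArg (v.1 ≫ ·) pullback.condition).trans (Category.assoc _ _ _).symm
    have hy : x₁ ≫ f j = (v.1 ≫ pullback.snd (f i) μ) ≫ μ := h.symm.trans hx
    refine Eq.trans ?_ (congrArg Subtype.val (m.φ_app x₀ x₁ _ hx hy h))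
    refine φ_congr D rfl rfl _ _ (hw.trans ?_)
    change v.1 ≫ m.a i = pullback.lift x₀ _ hx ≫ m.a i
    congr 1
    exact pullback.hom_ext (v.2.trans (pullback.lift_fst _ _ _).symm) (pullback.lift_snd _ _ _).symm
  · have hx : x₀ ≫ f i = (v.1 ≫ e i) ≫ μ := by rw [Category.assoc, heμ, ← Category.assoc, v.2]
    have hy : x₁ ≫ f j = (v.1 ≫ e i) ≫ μ := h.symm.trans hx
    have hv : D.φ x₀ x₁ h v = m.app x₁ (v.1 ≫ e i) hy := by
      rw [← m.φ_app x₀ x₁ _ hx hy h]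
      exact congrArg _ (Subtype.ext (h1 x₀ v hx).symm)
    change (canMapFam f (Over.mk μ) x₀ x₁ h w).1 = (D.φ x₀ x₁ h v).1 ≫ pullback.lift (D.obj j).hom (e j) (hsq j)
    apply pullback.hom_ext
    · refine Eq.trans ?_ (Category.assoc _ _ _).symm
      refine Eq.trans ?_ (congrArg ((D.φ x₀ x₁ h v).1 ≫ ·) (pullback.lift_fst _ _ _).symm)
      exact (canMapFam f (Over.mk μ) x₀ x₁ h w).2.trans (D.φ x₀ x₁ h v).2.symm
    · refine Eq.trans ?_ (Category.assoc _ _ _).symm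
      refine Eq.trans ?_ (congrArg ((D.φ x₀ x₁ h v).1 ≫ ·) (pullback.lift_snd _ _ _).symm)
      refine Eq.trans ?_ ((congrArg (·.1 ≫ e j) hv).trans (h2 x₁ (v.1 ≫ e i) hy)).symm
      refine (pullback.lift_snd _ _ _).trans ?_
      exact (congrArg (· ≫ pullback.snd (f i) μ) hw).trans
        ((Category.assoc _ _ _).trans (congrArg (v.1 ≫ ·) (pullback.lift_snd _ _ _)))
  · apply SchDDFam.hom_ext
    funext i
    apply Over.OverMorphism.ext
    change m.a i ≫ pullback.lift (D.obj i).hom (e i) (hsq i) = 𝟙 (pullback (f i) μ)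
    apply pullback.hom_ext
    · rw [Category.assoc, pullback.lift_fst, Category.id_comp, m.hom]
    · rw [Category.assoc, pullback.lift_snd, Category.id_comp]
      have := h2 (pullback.fst (f i) μ) (pullback.snd (f i) μ) pullback.condition
      have hid : pullback.lift (pullback.fst (f i) μ) (pullback.snd (f i) μ) pullback.condition = 𝟙 _ :=
        pullback.hom_ext (by simp) (by simp)
      exact ((congrArg (· ≫ e i) ((congrArg (· ≫ m.a i) hid).trans (Category.id_comp _))).symm).trans this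
  · apply SchDDFam.hom_ext
    funext i
    apply Over.OverMorphism.ext
    change pullback.lift (D.obj i).hom (e i) (hsq i) ≫ m.a i = 𝟙 (D.obj i).left
    have := h1 (D.obj i).hom ⟨𝟙 _, Category.id_comp _⟩ (by rw [Category.id_comp, heμ])
    refine Eq.trans ?_ this
    exact congrArg (· ≫ m.a i) (pullback.hom_ext (by simp) (by simp))

end GrothLib.SchEffective
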