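import Groth.Agent.Lib.SchEffective.Local
import Groth.Agent.Lib.FpqcCov.Basic

/-!
# Effectivity for fpqc coverings from the case of one morphism of affine schemes
-/

set_option autoImplicit false
set_option backward.isDefEq.respectTransparency false
set_option backward.isDefEq.respectTransparency.types false

universe u

open CategoryTheory CategoryTheory.Limits AlgebraicGeometry Desc

namespace GrothLib.SchEffective

/-- An isomorphic datum is representable too, for an fpqc covering. -/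
theorem isRep_of_iso {S : Scheme.{u}} {ι : Type u} {X : ι → Scheme.{u}} {f : ∀ i, X i ⟶ S}
    {D D' : SchDDFam f} (hf : Sieve.ofArrows X f ∈ Scheme.fpqcTopology S) (e : D ≅ D') (h : IsRep D) : IsRep D' :=
  isRep_of_isEffective hf (Functor.essImage.ofIso e (isEffective_of_isRep h))

/-- A family whose composite from the disjoint union covers, covers. -/
theorem sieve_mem_of_sigmaDesc {S : Scheme.{u}} {κ : Type u} {Z : κ → Scheme.{u}} (f : ∀ k, Z k ⟶ S)
    {n : Type} [Finite n] {Yf : n → Scheme.{u}} (g : ∀ j, Yf j ⟶ S) (hg : ∀ j, Sieve.ofArrows Z f (g j))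
    [Flat (Sigma.desc g)] [Surjective (Sigma.desc g)] [QuasiCompact (Sigma.desc g)] :
    Sieve.ofArrows Z f ∈ Scheme.fpqcTopology S := by
  refine Scheme.fpqcTopology.transitive
    (Precoverage.generate_mem_toGrothendieck (Sigma.desc g).singleton_mem_fpqcPrecoverage) _ fun Y' r hr => ?_
  obtain ⟨T, a, b, hb, rfl⟩ := hr
  obtain ⟨⟩ := hb
  rw [Sieve.pullback_comp]
  refine Scheme.fpqcTopology.pullback_stable _ ?_
  refine GrothendieckTopology.superset_covering _ ?_ (Scheme.zariskiTopology_le_fpqcTopology _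
    (sigmaOpenCover Yf).mem_grothendieckTopology)
  rintro V w ⟨V', a', b', ⟨j⟩, rfl⟩
  change Sieve.ofArrows Z f ((a' ≫ Sigma.ι Yf j) ≫ Sigma.desc g)
  rw [Category.assoc, Sigma.ι_desc]
  exact Sieve.downward_closed _ (hg j) a'

variable (P : MorphismProperty Scheme.{u}) [P.IsStableUnderBaseChange]
  (h2 : ∀ (m : ℕ) (Y V : Fin m → Scheme.{u}) (q : ∀ j, Y j ⟶ V j), (∀ j, P (q j)) → P (Limits.Sigma.map q))
  (h3 : ∀ (X S : Scheme.{u}) (p : X ⟶ S), IsAffine X → IsAffine S → Flat p → Surjective p →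
    ∀ D : Desc.SchDD p, P D.obj.hom → ∃ U : Over S, Nonempty ((Desc.toDD p).obj U ≅ D))

include h2 h3 in
/-- A finite family on an affine scheme with affine disjoint union. -/
theorem isRep_finite {W : Scheme.{u}} [IsAffine W] {n : ℕ} {Z : Fin n → Scheme.{u}} (g : ∀ j, Z j ⟶ W)
    [IsAffine (∐ Z)] [Flat (Sigma.desc g)] [Surjective (Sigma.desc g)]
    (D : SchDDFam fun j : ULift.{u} (Fin n) => g j.down) (hD : ∀ j, P (D.obj j).hom) : IsRep D := by
  let p : ∀ _ : PUnit.{u + 1}, ∐ Z ⟶ W := fun _ => Sigma.desc g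
  have hrep : ∀ k, IsRepOver D (p k) := fun k =>
    isRepOver_of_zariski (Sigma.desc g) (fun j : ULift.{u} (Fin n) => j) (fun j => Sigma.ι Z j.down)
      (fun j => Sigma.ι_desc g j.down) fun z => by
        obtain ⟨j, y, hy⟩ := (sigmaOpenCover Z).exists_eq z
        exact ⟨⟨j⟩, y, hy⟩
  obtain ⟨R⟩ := nonempty_reps D p hrep
  have w : ∀ j : ULift.{u} (Fin n), Sigma.ι Z j.down ≫ p PUnit.unit = g j.down := fun j => Sigma.ι_desc g j.down
  have hν : P (R.ν PUnit.unit) := by
    have hk : ∀ j : Fin n, P (pullback.snd (R.ν PUnit.unit) (Sigma.ι Z j)) := fun j =>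
      (P.arrow_mk_iso_iff (Arrow.isoMk ((Over.forget _).mapIso (R.compApp (α := fun _ => PUnit.unit)
        (g := fun j => Sigma.ι Z j.down) w ⟨j⟩)) (Iso.refl _) (by simp))).2 (hD ⟨j⟩)
    have hiso : IsIso (Sigma.desc fun j : Fin n => pullback.fst (R.ν PUnit.unit) (Sigma.ι Z j)) :=
      FinitaryPreExtensive.isIso_sigmaDesc_fst (Sigma.ι Z) (R.ν PUnit.unit)
      (by rw [show Sigma.desc (Sigma.ι Z) = 𝟙 _ from Sigma.hom_ext _ _ (by simp)]; infer_instance)
    refine (P.arrow_mk_iso_iff (Arrow.isoMk (f := Arrow.mk (Limits.Sigma.map fun j => pullback.snd (R.ν PUnit.unit) (Sigma.ι Z j)))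
      (g := Arrow.mk (R.ν PUnit.unit)) (@asIso _ _ _ _ (Sigma.desc fun j => pullback.fst (R.ν PUnit.unit) (Sigma.ι Z j)) hiso)
      (Iso.refl _) (Sigma.hom_ext _ _ fun j => ?_))).1 (h2 n _ _ _ hk)
    simp [pullback.condition]
  haveI : QuasiCompact (Sigma.desc g) := inferInstance
  have hp : Sieve.ofArrows (fun _ : PUnit.{u + 1} => ∐ Z) p ∈ Scheme.fpqcTopology W := by
    refine DDFull.ofArrows_mem ?_
    rw [Presieve.ofArrows_pUnit]
    exact Scheme.Hom.singleton_mem_fpqcPrecoverage _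
  let E := R.dd
  obtain ⟨U, ⟨e⟩⟩ := h3 _ _ (Sigma.desc g) inferInstance inferInstance inferInstance inferInstance
    ((SchDDFam.toSchDD (Sigma.desc g)).obj E) hν
  have hE : IsRep E := isRep_of_isEffective hp ⟨U, ⟨(SchDDFam.ofSchDD (Sigma.desc g)).mapIso e⟩⟩
  have hcov : Sieve.ofArrows (fun j : ULift.{u} (Fin n) => Z j.down) (fun j => g j.down) ∈ Scheme.fpqcTopology W :=
    sieve_mem_of_sigmaDesc _ g fun j => (Sieve.mem_ofArrows_iff _ _ _).2 ⟨⟨j⟩, 𝟙 _, (Category.id_comp _).symm⟩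
  exact isRep_of_iso hcov (R.compIso (α := fun _ => PUnit.unit) (g := fun j => Sigma.ι Z j.down) w)
    ((isRep_pull_iff (α := fun _ => PUnit.unit) (p' := fun j => Sigma.ι Z j.down)
      (fun j => (w j).trans (Category.comp_id _).symm) hcov).2 (isRep_iff_isRepOver_id.1 hE))

include h2 h3 in
/-- Effectivity for fpqc coverings. -/
theorem isEffective_of_affine_case {ι : Type u} {S : Scheme.{u}} {U : ι → Scheme.{u}} (u : ∀ i, U i ⟶ S)
    (hu : Presieve.ofArrows U u ∈ Scheme.fpqcPrecoverage S) (D : SchDDFam u) (hD : ∀ i, P (D.obj i).hom) :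
    D.IsEffective := by
  obtain ⟨hqc, hflat, -⟩ := FpqcCov.quasiCompactCover_and_flat u hu
  refine isEffective_of_isRep (isRep_of_openCover (fun W : S.affineOpens => W.1)
    (TopologicalSpace.IsOpenCover.mk (iSup_affineOpens_eq_top S)) fun W => ?_)
  haveI : IsAffine (W.1 : Scheme.{u}) := W.2
  obtain ⟨n, idx, Z, b, hb, hZ, h₁, h₂, h₃⟩ :=
    FpqcCov.exists_affine_refinement (PreZeroHypercover.mk ι U u) hflat W.1.ι
  let g : ∀ j, Z j ⟶ W.1 := fun j => b j ≫ pullback.fst W.1.ι (u (idx j))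
  haveI : Flat (Sigma.desc g) := h₁
  haveI : Surjective (Sigma.desc g) := h₂
  haveI : QuasiCompact (Sigma.desc g) := h₃
  have w : ∀ j : ULift.{u} (Fin n), (b j.down ≫ pullback.snd W.1.ι (u (idx j.down))) ≫ u (idx j.down) =
      g j.down ≫ W.1.ι := fun j => by
    simp only [g, Category.assoc, pullback.condition]
  have hcov : Sieve.ofArrows (fun j : ULift.{u} (Fin n) => Z j.down) (fun j => g j.down) ∈ Scheme.fpqcTopology _ :=
    sieve_mem_of_sigmaDesc _ g fun j => (Sieve.mem_ofArrows_iff _ _ _).2 ⟨⟨j⟩, 𝟙 _, (Category.id_comp _).symm⟩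
  refine (isRep_pull_iff (f' := fun j : ULift.{u} (Fin n) => g j.down) (α := fun j => idx j.down) w hcov).1 ?_
  refine isRep_finite P h2 h3 g _ fun j => ?_
  exact MorphismProperty.pullback_snd _ _ (hD _)

end GrothLib.SchEffective
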