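import Groth.Agent.Lib.SchEffective.QuasiAffine
import Groth.Agent.Lib.SchEffective.Union
import Groth.Agent.Lib.SchEffective.Rel
import Mathlib.AlgebraicGeometry.Morphisms.Proper
import Mathlib.AlgebraicGeometry.Morphisms.UniversallyOpen

/-!
# Descent along finite locally free morphisms when finite subsets of fibres lie in quasi-affine opens
-/

set_option autoImplicit false
set_option backward.isDefEq.respectTransparency false
set_option backward.isDefEq.respectTransparency.types false

universe u

open CategoryTheory CategoryTheory.Limits AlgebraicGeometry Desc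

namespace GrothLib.SchEffective

/-- Finite subsets of the fibres over the base lie in opens all whose compact opens are quasi-affine. -/
def FibresInQuasiAffine {X Y : Scheme.{u}} (p : X ⟶ Y) (Z : Over X) (N : ℕ∞) : Prop :=
  ∀ (y : Y) (s : Finset Z.left), (s.card : ℕ∞) ≤ N → (∀ v ∈ s, p (Z.hom v) = y) →
    ∃ A : Z.left.Opens, (∀ U : Z.left.Opens, U ≤ A → IsCompact (U : Set Z.left) → Scheme.IsQuasiAffine (U : Scheme.{u})) ∧
      ∀ v ∈ s, v ∈ A

/-- All translates of each point lie in an open all whose compact opens are quasi-affine. -/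
def OrbitsInQuasiAffine {X Y : Scheme.{u}} {p : X ⟶ Y} (D : SchDD p) : Prop :=
  ∀ v : D.obj.left, ∃ A : D.obj.left.Opens,
    (∀ U : D.obj.left.Opens, U ≤ A → IsCompact (U : Set D.obj.left) → Scheme.IsQuasiAffine (U : Scheme.{u})) ∧
      ∀ w : relScheme D, relSrc D w = v → relTgt D w ∈ A

/-- Finite sets of bounded size in the fibres give orbits in quasi-affine opens. -/
theorem orbits_of_fibres {X Y : Scheme.{u}} {p : X ⟶ Y} [IsFinite p] (D : SchDD p) (N : ℕ∞)
    (hN : ∀ v : D.obj.left, (relSrc D ⁻¹' {v}).encard ≤ N) (h : FibresInQuasiAffine p D.obj N) :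
    OrbitsInQuasiAffine D := by
  intro v
  haveI : IsFinite (relSrc D) := MorphismProperty.pullback_fst (P := @IsFinite) _ _ inferInstance
  have hfin : (relTgt D '' (relSrc D ⁻¹' {v})).Finite := ((relSrc D).finite_preimage_singleton v).image _
  have hle : (hfin.toFinset.card : ℕ∞) ≤ N := by
    rw [← hfin.encard_eq_coe_toFinset_card]
    exact (Set.encard_image_le _ _).trans (hN v)
  obtain ⟨A, hA, hvA⟩ := h (p (D.obj.hom v)) hfin.toFinset hle fun v' hv' => by
    obtain ⟨w, hw, rfl⟩ := hfin.mem_toFinset.1 hv'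
    have e := congr($(relTgt_cond D) w)
    simp only [Scheme.Hom.comp_apply] at e
    rw [e, show relSrc D w = v from hw]
  exact ⟨A, hA, fun w hw => hvA _ (hfin.mem_toFinset.2 ⟨w, hw, rfl⟩)⟩

/-- The case of an affine base. -/
theorem isRep_of_finLocFree_affine {X Y : Scheme.{u}} (p : X ⟶ Y) [IsAffine Y] [Surjective p] [IsFinite p] [Flat p]
    [LocallyOfFinitePresentation p] (D : SchDD p) (h : OrbitsInQuasiAffine D) :
    IsRep ((SchDDFam.ofSchDD p).obj D) := by
  haveI : IsAffine X := isAffine_of_isAffineHom p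
  haveI : IsFinite (relSrc D) := MorphismProperty.pullback_fst (P := @IsFinite) _ _ inferInstance
  haveI : Flat (relSrc D) := inferInstance
  haveI : LocallyOfFinitePresentation (relSrc D) :=
    MorphismProperty.pullback_fst (P := @LocallyOfFinitePresentation) _ _ inferInstance
  haveI : IsFinite (relTgt D) := relTgt_mem D @IsFinite inferInstance
  have hp : Sieve.ofArrows (fun _ : PUnit.{u + 1} => X) (fun _ => p) ∈ Scheme.fpqcTopology Y := by
    refine DDFull.ofArrows_mem ?_
    rw [Presieve.ofArrows_pUnit]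
    exact Scheme.Hom.singleton_mem_fpqcPrecoverage p
  have key : ∀ v : D.obj.left, ∃ (D' : SchDD p) (j : D' ⟶ D), IsOpenImmersion j.hom.left ∧
      v ∈ Set.range j.hom.left ∧ IsRep ((SchDDFam.ofSchDD p).obj D') := by
    intro v
    obtain ⟨A, hA, hvA⟩ := h v
    have hopen : IsOpen (satCore D (A : Set D.obj.left)) :=
      ((relSrc D).isClosedMap _ (A.2.isClosed_compl.preimage (relTgt D).continuous)).isOpen_compl
    have hv : v ∈ satCore D (A : Set D.obj.left) := by
      rintro ⟨w, hw, rfl⟩
      exact hw (hvA w rfl)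
    obtain ⟨_, ⟨U₀, hU₀, rfl⟩, hvU₀, hU₀A⟩ :=
      D.obj.left.isBasis_affineOpens.exists_subset_of_mem_open hv hopen
    let U₁ : D.obj.left.Opens := ⟨satHull D (U₀ : Set D.obj.left),
      (relSrc D).isOpenMap _ (U₀.2.preimage (relTgt D).continuous)⟩
    have hU₁c : IsCompact (U₁ : Set D.obj.left) :=
      ((relTgt D).isCompact_preimage hU₀.isCompact).image (relSrc D).continuous
    have hU₁A : U₁ ≤ A := fun z hz =>
      satCore_subset D _ (satHull_subset D (isSaturated_satCore D _) hU₀A hz)
    obtain ⟨D', j, hj, hjr, -, ⟨e⟩⟩ := exists_restrict D U₁ (isSaturated_satHull D _)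
    refine ⟨D', j, hj, hjr ▸ subset_satHull D _ hvU₀, ?_⟩
    haveI : Scheme.IsQuasiAffine (U₁ : Scheme.{u}) := hA U₁ hU₁A hU₁c
    have hqa : qcQA (U₁.ι ≫ D.obj.hom) := by
      refine ⟨(HasAffineProperty.iff_of_isAffine (P := @QuasiCompact)).mpr inferInstance, (IndQA.indQA_iff _).mpr fun V hV U hle hU => ?_⟩
      exact IndQA.qa_mono ((IndQA.qa_top_iff _).mpr inferInstance) hU le_top
    have hqa' : qcQA D'.obj.hom :=
      (qcQA.arrow_mk_iso_iff (Arrow.isoMk ((Over.forget X).mapIso e) (Iso.refl X) (by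
        dsimp; rw [Category.comp_id]; exact Over.w e.hom))).2 hqa
    refine isRep_of_isEffective hp (isEffective_of_qcQA _ ?_ _ fun _ => hqa')
    rw [Presieve.ofArrows_pUnit]
    exact Scheme.Hom.singleton_mem_fpqcPrecoverage p
  choose D' j hj hv hrep using key
  exact isRep_of_openSubData p (fun v => (SchDDFam.ofSchDD p).obj (D' v))
    (fun v => (SchDDFam.ofSchDD p).map (j v)) hj (fun v => ⟨v, hv v⟩) hrep

/-- Descent along a finite locally free morphism. -/
theorem exists_descent_of_finLocFree {X Y : Scheme.{u}} (p : X ⟶ Y) [Surjective p] [IsFinite p] [Flat p]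
    [LocallyOfFinitePresentation p] (D : SchDD p) (N : ℕ∞)
    (hN : ∀ {T : Scheme.{u}} (t : T ⟶ Y) (z : T), (pullback.fst t p ⁻¹' {z}).encard ≤ N)
    (h : FibresInQuasiAffine p D.obj N) :
    ∃ U : Over Y, Nonempty ((toDD p).obj U ≅ D) := by
  have hrep : IsRep ((SchDDFam.ofSchDD p).obj D) := by
    refine isRep_of_openCover (fun W : Y.affineOpens => W.1)
      (TopologicalSpace.IsOpenCover.mk (iSup_affineOpens_eq_top Y)) fun W => ?_
    haveI : IsAffine (W.1 : Scheme.{u}) := W.2
    let p₁ := pullback.snd p W.1.ι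
    let p' := pullback.fst p W.1.ι
    haveI : IsFinite p₁ := MorphismProperty.pullback_snd (P := @IsFinite) _ _ inferInstance
    haveI : LocallyOfFinitePresentation p₁ :=
      MorphismProperty.pullback_snd (P := @LocallyOfFinitePresentation) _ _ inferInstance
    haveI : Surjective p₁ := MorphismProperty.pullback_snd (P := @Surjective) _ _ inferInstance
    have hcov : Sieve.ofArrows (fun _ : PUnit.{u + 1} => pullback p W.1.ι) (fun _ => p₁) ∈
        Scheme.fpqcTopology (W.1 : Scheme.{u}) := by
      refine DDFull.ofArrows_mem ?_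
      rw [Presieve.ofArrows_pUnit]
      exact Scheme.Hom.singleton_mem_fpqcPrecoverage p₁
    refine (isRep_pull_iff (f' := fun _ : PUnit.{u + 1} => p₁) (α := fun _ => PUnit.unit) (p' := fun _ => p')
      (fun _ => pullback.condition) hcov).1 ?_
    let D₁ := pullDDFamObj (f := fun _ : PUnit.{u + 1} => p) (f' := fun _ : PUnit.{u + 1} => p₁)
      (α := fun _ => PUnit.unit) (p := W.1.ι) (p' := fun _ => p') (fun _ => pullback.condition)
      ((SchDDFam.ofSchDD p).obj D)
    refine isRep_of_finLocFree_affine p₁ ((SchDDFam.toSchDD p₁).obj D₁)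
      (orbits_of_fibres _ N (fun z => ?_) fun y s hsN hs => ?_)
    · let D₂ := (SchDDFam.toSchDD p₁).obj D₁
      let k : relScheme D₂ ⟶ pullback ((D₂.obj.hom ≫ p₁) ≫ W.1.ι) p :=
        pullback.lift (relSrc D₂) (pullback.snd _ _ ≫ p') (by
          rw [Category.assoc (pullback.snd _ _), pullback.condition (f := p) (g := W.1.ι),
            ← Category.assoc (pullback.snd _ _), ← pullback.condition (f := D₂.obj.hom ≫ p₁) (g := p₁)]
          simp only [Category.assoc])
      let k' : pullback ((D₂.obj.hom ≫ p₁) ≫ W.1.ι) p ⟶ relScheme D₂ :=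
        pullback.lift (pullback.fst _ _) (pullback.lift (pullback.snd _ _) (pullback.fst _ _ ≫ D₂.obj.hom ≫ p₁)
          (pullback.condition.symm.trans (Category.assoc _ _ _).symm)) (by rw [pullback.lift_snd])
      have hk : k ≫ k' = 𝟙 _ := by
        refine pullback.hom_ext (by simp [k, k']) (pullback.hom_ext (by simp [k, k', p']) ?_)
        simp [k, k', p₁, pullback.condition]
      refine le_trans (Set.encard_le_encard_of_injOn (f := fun w => k w) (fun w (hw : relSrc D₂ w = z) => ?_)
        fun w _ w' _ e => ?_) (hN ((D₂.obj.hom ≫ p₁) ≫ W.1.ι) z)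
      · change (pullback.fst ((D₂.obj.hom ≫ p₁) ≫ W.1.ι) p) (k w) = z
        rw [← Scheme.Hom.comp_apply, pullback.lift_fst]
        exact hw
      · have e' := congrArg (fun u => k' u) e
        change k' (k w) = k' (k w') at e'
        rw [← Scheme.Hom.comp_apply, ← Scheme.Hom.comp_apply, hk] at e'
        exact e'
    let g : pullback D.obj.hom p' ⟶ D.obj.left := pullback.fst D.obj.hom p'
    classical
    have key : (g ≫ D.obj.hom) ≫ p = (pullback.snd D.obj.hom p' ≫ p₁) ≫ W.1.ι := by
      simp only [g, p₁, Category.assoc, ← pullback.condition (f := p) (g := W.1.ι)]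
      rw [← Category.assoc, pullback.condition (f := D.obj.hom) (g := p'), Category.assoc]
    obtain ⟨A, hA, hsA⟩ := h (W.1.ι y) (s.image fun z => g z)
      ((Nat.cast_le.2 Finset.card_image_le).trans hsN) fun v hv => by
      obtain ⟨z, hz, rfl⟩ := Finset.mem_image.1 hv
      have e := congr($key z)
      simp only [Scheme.Hom.comp_apply] at e
      rw [e]
      exact congrArg W.1.ι (hs z hz)
    refine ⟨g ⁻¹ᵁ A, fun U hU hUc => ?_, fun z hz => hsA _ (Finset.mem_image_of_mem _ hz)⟩
    refine (IndQA.qa_image_iff g U).2 (hA _ ?_ (by rw [Scheme.Hom.coe_image]; exact hUc.image g.continuous))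
    rintro _ ⟨z, hz, rfl⟩
    exact hU hz
  obtain ⟨U, ⟨e⟩⟩ := isEffective_of_isRep hrep
  exact ⟨U, ⟨(SchDDFam.toSchDD p).mapIso e⟩⟩

end GrothLib.SchEffective
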