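import Mathlib.AlgebraicGeometry.AlgClosed.Basic
import Mathlib.AlgebraicGeometry.Morphisms.Finite
import Mathlib.AlgebraicGeometry.Morphisms.QuasiFinite
import Mathlib.AlgebraicGeometry.PullbackCarrier
import Mathlib.Data.Set.Card

/-!
# Bounding fibres of a finite morphism by geometric points
-/

set_option autoImplicit false
set_option backward.isDefEq.respectTransparency false
set_option backward.isDefEq.respectTransparency.types false

universe u

open CategoryTheory CategoryTheory.Limits AlgebraicGeometry

namespace GrothLib.SchEffective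

/-- Base changes of a finite morphism have at most as many points in a fibre as it has geometric points. -/
theorem encard_fibre_le {X Y : Scheme.{u}} (p : X ⟶ Y) [IsFinite p] (d : ℕ∞)
    (hfib : ∀ (k : Type u) [Field k] [IsAlgClosed k] (y : Spec (CommRingCat.of k) ⟶ Y),
      Set.encard {x : Spec (CommRingCat.of k) ⟶ X | x ≫ p = y} ≤ d)
    {T : Scheme.{u}} (t : T ⟶ Y) (z : T) : (pullback.fst t p ⁻¹' {z}).encard ≤ d := by
  classical
  let Ω := AlgebraicClosure (T.residueField z)
  let g : Spec (.of Ω) ⟶ T :=
    Spec.map (CommRingCat.ofHom (algebraMap (T.residueField z) Ω)) ≫ T.fromSpecResidueField z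
  have hg : ∀ a, g a = z := fun a => by
    rw [Scheme.Hom.comp_apply]; exact Scheme.fromSpecResidueField_apply z _
  let π := pullback.fst t p
  let σ := pullback.snd π g
  haveI : IsFinite π := MorphismProperty.pullback_fst (P := @IsFinite) _ _ inferInstance
  haveI : IsFinite σ := MorphismProperty.pullback_snd (P := @IsFinite) _ _ inferInstance
  have hclosed : ∀ u : ↥(pullback π g), IsClosed ({u} : Set ↥(pullback π g)) := fun u => by
    haveI : DiscreteTopology ↥(pullback π g) := by
      rw [← isDiscrete_univ_iff]
      have h := σ.isDiscrete_preimage_singleton (σ u)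
      rwa [show σ ⁻¹' {σ u} = Set.univ from Set.eq_univ_of_forall fun a => Subsingleton.elim (σ a) (σ u)] at h
    exact isClosed_discrete _
  have hex : ∀ w : ↥(pullback t p), π w = z → ∃ c : Spec (.of Ω) ⟶ pullback t p,
      c ≫ π = g ∧ c (IsLocalRing.closedPoint Ω) = w := by
    intro w hw
    obtain ⟨u, hu, -⟩ := Scheme.Pullback.exists_preimage_pullback (f := π) (g := g) w (IsLocalRing.closedPoint Ω)
      (by rw [hw, hg])
    refine ⟨pointOfClosedPoint σ u (hclosed u) ≫ pullback.fst π g, ?_, ?_⟩
    · rw [Category.assoc, pullback.condition, ← Category.assoc, pointOfClosedPoint_comp, Category.id_comp]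
    · rw [Scheme.Hom.comp_apply, pointOfClosedPoint_apply, hu]
  choose c hc hcw using hex
  let F : {w : ↥(pullback t p) // π w = z} → {x : Spec (.of Ω) ⟶ X // x ≫ p = g ≫ t} := fun w =>
    ⟨c w.1 w.2 ≫ pullback.snd t p, by
      rw [Category.assoc, ← pullback.condition, ← Category.assoc, hc w.1 w.2]⟩
  have hF : Function.Injective F := fun w w' e => Subtype.ext <| by
    have e' : c w.1 w.2 = c w'.1 w'.2 :=
      pullback.hom_ext ((hc w.1 w.2).trans (hc w'.1 w'.2).symm) (congrArg Subtype.val e)
    rw [← hcw w.1 w.2, ← hcw w'.1 w'.2, e']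
  exact le_trans (Function.Embedding.encard_le ⟨F, hF⟩) (hfib Ω (g ≫ t))

end GrothLib.SchEffective
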