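import Groth.Agent.Lib.SchEffective.Refine

/-!
# Representability over Zariski refinements
-/

set_option autoImplicit false
set_option backward.isDefEq.respectTransparency false
set_option backward.isDefEq.respectTransparency.types false

universe u

open CategoryTheory CategoryTheory.Limits AlgebraicGeometry Desc

namespace GrothLib.SchEffective

variable {S : Scheme.{u}} {ι : Type u} {X : ι → Scheme.{u}} {f : ∀ i, X i ⟶ S} {D : SchDDFam f}

theorem sieve_mem_of_section {i₀ : ι} (σ : S ⟶ X i₀) (hσ : σ ≫ f i₀ = 𝟙 S) (J : GrothendieckTopology Scheme.{u}) :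
    Sieve.ofArrows X f ∈ J S := by
  have : Sieve.ofArrows X f = ⊤ := by
    rw [← Sieve.id_mem_iff_eq_top, Sieve.mem_ofArrows_iff]
    exact ⟨i₀, σ, hσ.symm⟩
  rw [this]; exact J.top_mem S

/-- A datum is representable over a scheme mapping to a member of the family. -/
theorem isRepOver_of_lift {S' : Scheme.{u}} {q : S' ⟶ S} {i : ι} (σ : S' ⟶ X i) (h : σ ≫ f i = q) :
    IsRepOver D q := by
  have w : ∀ _ : PUnit.{u + 1}, σ ≫ f i = 𝟙 S' ≫ q := fun _ => h.trans (Category.id_comp q).symm
  exact (isRep_pull_iff (f' := fun _ : PUnit.{u + 1} => 𝟙 S') (α := fun _ => i) (p' := fun _ => σ) w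
    (sieve_mem_of_section (i₀ := PUnit.unit) (𝟙 S') (Category.id_comp _) _)).1
      (isRep_of_section (i₀ := PUnit.unit) (𝟙 S') (Category.id_comp _))

/-- A datum is representable over a scheme which the family covers by open immersions. -/
theorem isRepOver_of_zariski {S' : Scheme.{u}} (q : S' ⟶ S) {κ : Type u} (α : κ → ι)
    (g : ∀ k, X (α k) ⟶ S') [∀ k, IsOpenImmersion (g k)] (w : ∀ k, g k ≫ q = f (α k))
    (hcov : ∀ z : S', ∃ k, z ∈ (g k).opensRange) : IsRepOver D q := by
  have w' : ∀ k, 𝟙 (X (α k)) ≫ f (α k) = g k ≫ q := fun k => (Category.id_comp _).trans (w k).symm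
  have hc : Presieve.ofArrows (fun k => X (α k)) g ∈ Scheme.zariskiPrecoverage S' := by
    rw [Scheme.ofArrows_mem_precoverage_iff]
    refine ⟨fun x => ?_, fun k => inferInstance⟩
    obtain ⟨k, hk⟩ := hcov x
    exact ⟨k, hk⟩
  refine (isRep_pull_iff w' (DDFull.ofArrows_mem (Scheme.zariskiPrecoverage_le_fpqcPrecoverage S' hc))).1 ?_
  refine isRep_of_openCover (fun k => (g k).opensRange)
    (TopologicalSpace.IsOpenCover.mk (eq_top_iff.mpr fun z _ => TopologicalSpace.Opens.mem_iSup.mpr (hcov z)))
    fun k => ?_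
  exact isRepOver_of_lift (g k).isoOpensRange.inv (g k).isoOpensRange_inv_comp

end GrothLib.SchEffective
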