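import Groth.Agent.Lib.SchEffective.Affine
import Mathlib.AlgebraicGeometry.Morphisms.FlatDescent

/-!
# Effective fpqc descent of open immersions
-/

set_option autoImplicit false
set_option backward.isDefEq.respectTransparency false
set_option backward.isDefEq.respectTransparency.types false

universe u

open CategoryTheory CategoryTheory.Limits AlgebraicGeometry Desc

namespace GrothLib.SchEffective

/-- An open immersion with a descent datum comes from an open of the base. -/
theorem exists_descent_of_openImmersion {X S : Scheme.{u}} (p : X ⟶ S) [Flat p] [Surjective p] [QuasiCompact p]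
    (D : SchDD p) [IsOpenImmersion D.obj.hom] :
    ∃ (U : Over S) (e : D.obj.left ⟶ U.left), IsOpenImmersion U.hom ∧ IsPullback D.obj.hom e p U.hom ∧
      ∀ ⦃T : Scheme.{u}⦄ (x₀ x₁ : T ⟶ X) (h : x₀ ≫ p = x₁ ≫ p) (v : Lifts D.obj x₀),
        (D.φ x₀ x₁ h v).1 ≫ e = v.1 ≫ e := by
  let h := D.obj.hom
  have hsat : p ⁻¹' (p '' Set.range h) = Set.range h := by
    refine Set.Subset.antisymm ?_ (Set.subset_preimage_image _ _)
    rintro x₁ ⟨x₀, hx₀, hx⟩
    obtain ⟨w, hw₀, hw₁⟩ := Scheme.Pullback.exists_preimage_pullback (f := p) (g := p) x₀ x₁ hx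
    let O : (pullback p p).Opens := pullback.fst p p ⁻¹ᵁ h.opensRange
    have hr : Set.range (O.ι ≫ pullback.fst p p) ⊆ Set.range h := by
      rintro _ ⟨z, rfl⟩
      rw [Scheme.Hom.comp_apply]
      exact z.2
    let v : Lifts D.obj (O.ι ≫ pullback.fst p p) := ⟨IsOpenImmersion.lift h _ hr, IsOpenImmersion.lift_fac _ _ hr⟩
    let v' := D.φ _ (O.ι ≫ pullback.snd p p) (by rw [Category.assoc, pullback.condition, Category.assoc]) v
    refine ⟨v'.1 ⟨w, by change pullback.fst p p w ∈ Set.range h; rw [hw₀]; exact hx₀⟩, ?_⟩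
    change h (v'.1 _) = _
    rw [← Scheme.Hom.comp_apply, show v'.1 ≫ h = O.ι ≫ pullback.snd p p from v'.2, Scheme.Hom.comp_apply]
    exact hw₁
  let U : S.Opens := ⟨p '' Set.range h, by
    rw [← (Flat.isQuotientMap_of_surjective p).isCoinducing.isOpen_preimage, hsat]
    exact h.isOpenEmbedding.isOpen_range⟩
  have hU : Set.range (h ≫ p) ⊆ Set.range U.ι := by
    rw [Scheme.Opens.range_ι]
    rintro _ ⟨z, rfl⟩
    exact ⟨h z, ⟨z, rfl⟩, (Scheme.Hom.comp_apply _ _ _).symm⟩
  let e := IsOpenImmersion.lift U.ι (h ≫ p) hU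
  have he : e ≫ U.ι = h ≫ p := IsOpenImmersion.lift_fac _ _ _
  have sq : IsPullback e h U.ι p := by
    refine IsOpenImmersion.isPullback e h U.ι p he.symm (TopologicalSpace.Opens.ext ?_)
    rw [Scheme.Opens.opensRange_ι]
    exact hsat
  refine ⟨Over.mk U.ι, e, inferInstanceAs (IsOpenImmersion U.ι), sq.flip, fun T x₀ x₁ hx v => ?_⟩
  rw [← cancel_mono U.ι, Category.assoc, Category.assoc, he, ← Category.assoc, ← Category.assoc v.1]
  exact (congrArg (· ≫ p) (D.φ x₀ x₁ hx v).2).trans (hx.symm.trans (congrArg (· ≫ p) v.2).symm)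

end GrothLib.SchEffective
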