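import Groth.Agent.Lib.SchEffective.Glue
import Groth.Agent.Lib.DDPull.Basic

/-!
# Descending a datum along a refinement by representing objects
-/

set_option autoImplicit false
set_option backward.isDefEq.respectTransparency false
set_option backward.isDefEq.respectTransparency.types false

universe u

open CategoryTheory CategoryTheory.Limits AlgebraicGeometry Desc

namespace GrothLib.SchEffective

variable {S : Scheme.{u}} {ι : Type u} {X : ι → Scheme.{u}} {f : ∀ i, X i ⟶ S} {D : SchDDFam f}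

/-- Transport of elements along an equality of structure maps. -/
def Elt.castEq {T : Scheme.{u}} {t t' : T ⟶ S} (e : t = t') : Elt D t ≃ Elt D t' := Equiv.cast (by rw [e])

theorem Elt.castEq_app {T : Scheme.{u}} {t t' : T ⟶ S} (e : t = t') (a : Elt D t) {T' : Scheme.{u}} {i : ι}
    (x : T' ⟶ X i) (s : T' ⟶ T) (h' : x ≫ f i = s ≫ t') (h : x ≫ f i = s ≫ t) :
    ((Elt.castEq e a).app x s h').1 = (a.app x s h).1 := by
  subst e; rfl

theorem Elt.castEq_trans {T : Scheme.{u}} {t t' t'' : T ⟶ S} (e : t = t') (e' : t' = t'') (a : Elt D t) :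
    Elt.castEq e' (Elt.castEq e a) = Elt.castEq (e.trans e') a := by
  subst e e'; rfl

theorem Elt.castEq_refl {T : Scheme.{u}} {t : T ⟶ S} (a : Elt D t) : Elt.castEq rfl a = a := rfl

/-- Elements over the image of a point of `X i` are the points of `D` over it. -/
noncomputable def Elt.pointEquiv {T : Scheme.{u}} {i : ι} (x : T ⟶ X i) :
    Elt D (x ≫ f i) ≃ Lifts (D.obj i) x where
  toFun a := a.app x (𝟙 T) (Category.id_comp _).symm
  invFun v := Elt.ofPoint x v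
  left_inv a := Elt.ext' fun T' j y s h => by
    have hs : (s ≫ x) ≫ f i = s ≫ x ≫ f i := Category.assoc _ _ _
    rw [Elt.ofPoint_app, ← a.φ_app (s ≫ x) y s hs h (hs.trans h.symm)]
    exact φ_congr D rfl rfl _ _
      ((a.app_natural s x (𝟙 T) _ (by rw [Category.comp_id, Category.assoc])).symm.trans
        (a.app_congr rfl (Category.comp_id s) _ _))
  right_inv v := Subtype.ext <| by
    rw [Elt.ofPoint_app]
    exact (φ_congr D (Category.id_comp x) rfl _ rfl (q := v) (Category.id_comp _)).trans (by rw [D.φ_self])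

section reps

variable (D) {κ : Type u} {V : κ → Scheme.{u}} (v : ∀ j, V j ⟶ S)

/-- Objects representing `D` over the members of a family. -/
structure Reps where
  /-- the objects -/
  N : κ → Scheme.{u}
  /-- their structure maps -/
  ν : ∀ j, N j ⟶ V j
  /-- the universal elements -/
  n : ∀ j, Elt D (ν j ≫ v j)
  univ : ∀ (j : κ) ⦃T : Scheme.{u}⦄ (t : T ⟶ V j) (a : Elt D (t ≫ v j)),
    ∃! g : T ⟶ N j, g ≫ ν j = t ∧ IsRes (n j) g a

theorem nonempty_reps (h : ∀ j, IsRepOver D (v j)) : Nonempty (Reps D v) := by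
  choose N ν n hn using h
  exact ⟨⟨N, ν, n, hn⟩⟩

variable {D v} (R : Reps D v)

/-- A point of a representing object gives an element. -/
noncomputable def Reps.toElt {T : Scheme.{u}} {j : κ} (x : T ⟶ V j) (g : Lifts (Over.mk (R.ν j)) x) :
    Elt D (x ≫ v j) :=
  (R.n j).res g.1 ((Category.assoc _ _ _).symm.trans (congrArg (· ≫ v j) g.2))

theorem Reps.toElt_bijective {T : Scheme.{u}} {j : κ} (x : T ⟶ V j) :
    Function.Bijective (R.toElt x (T := T)) := by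
  refine ⟨fun g g' h => Subtype.ext ?_, fun a => ?_⟩
  · refine (R.univ j x (R.toElt x g')).unique ⟨g.2, ?_⟩ ⟨g'.2, Elt.isRes_res _ _ _⟩
    rw [← h]; exact Elt.isRes_res _ _ _
  · obtain ⟨g, hg, -⟩ := R.univ j x a
    exact ⟨⟨g, hg.1⟩, hg.2.eq.symm⟩

/-- Points of a representing object are elements. -/
noncomputable def Reps.equiv {T : Scheme.{u}} {j : κ} (x : T ⟶ V j) :
    Lifts (Over.mk (R.ν j)) x ≃ Elt D (x ≫ v j) :=
  Equiv.ofBijective _ (R.toElt_bijective x)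

theorem Reps.equiv_app {T : Scheme.{u}} {j : κ} (x : T ⟶ V j) (g : Lifts (Over.mk (R.ν j)) x)
    {T' : Scheme.{u}} {i : ι} (y : T' ⟶ X i) (s : T' ⟶ T) (h : y ≫ f i = s ≫ x ≫ v j)
    (h' : y ≫ f i = (s ≫ g.1) ≫ R.ν j ≫ v j) :
    ((R.equiv x g).app y s h).1 = ((R.n j).app y (s ≫ g.1) h').1 :=
  Elt.res_app (R.n j) g.1 ((Category.assoc _ _ _).symm.trans (congrArg (· ≫ v j) g.2)) y s h h'

/-- The comparison between points of the representing objects. -/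
noncomputable def Reps.trans ⦃T : Scheme.{u}⦄ ⦃j₀ j₁ : κ⦄ (x₀ : T ⟶ V j₀) (x₁ : T ⟶ V j₁)
    (h : x₀ ≫ v j₀ = x₁ ≫ v j₁) : Lifts (Over.mk (R.ν j₀)) x₀ ≃ Lifts (Over.mk (R.ν j₁)) x₁ :=
  ((R.equiv x₀).trans (Elt.castEq h)).trans (R.equiv x₁).symm

theorem Reps.trans_spec ⦃T : Scheme.{u}⦄ ⦃j₀ j₁ : κ⦄ (x₀ : T ⟶ V j₀) (x₁ : T ⟶ V j₁)
    (h : x₀ ≫ v j₀ = x₁ ≫ v j₁) (g : Lifts (Over.mk (R.ν j₀)) x₀) :
    R.equiv x₁ (R.trans x₀ x₁ h g) = Elt.castEq h (R.equiv x₀ g) := by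
  simp [Reps.trans]

theorem Reps.trans_app ⦃T : Scheme.{u}⦄ ⦃j₀ j₁ : κ⦄ (x₀ : T ⟶ V j₀) (x₁ : T ⟶ V j₁)
    (h : x₀ ≫ v j₀ = x₁ ≫ v j₁) (g : Lifts (Over.mk (R.ν j₀)) x₀)
    {T' : Scheme.{u}} {i : ι} (y : T' ⟶ X i) (s : T' ⟶ T)
    (h₀ : y ≫ f i = (s ≫ g.1) ≫ R.ν j₀ ≫ v j₀)
    (h₁ : y ≫ f i = (s ≫ (R.trans x₀ x₁ h g).1) ≫ R.ν j₁ ≫ v j₁) :
    ((R.n j₁).app y (s ≫ (R.trans x₀ x₁ h g).1) h₁).1 = ((R.n j₀).app y (s ≫ g.1) h₀).1 := by
  have hg : g.1 ≫ R.ν j₀ = x₀ := g.2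
  have e₀ : y ≫ f i = s ≫ x₀ ≫ v j₀ := by rw [h₀, Category.assoc, ← Category.assoc g.1, hg]
  have e₁ : y ≫ f i = s ≫ x₁ ≫ v j₁ := by rw [e₀, h]
  rw [← R.equiv_app x₁ (R.trans x₀ x₁ h g) y s e₁ h₁, R.trans_spec, Elt.castEq_app h _ y s e₁ e₀,
    R.equiv_app x₀ g y s e₀ h₀]

theorem Reps.trans_natural ⦃T T' : Scheme.{u}⦄ (k : T' ⟶ T) ⦃j₀ j₁ : κ⦄ (x₀ : T ⟶ V j₀) (x₁ : T ⟶ V j₁)
    (h : x₀ ≫ v j₀ = x₁ ≫ v j₁) (y₀ : T' ⟶ V j₀) (y₁ : T' ⟶ V j₁) (hy₁ : k ≫ x₁ = y₁)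
    (h' : y₀ ≫ v j₀ = y₁ ≫ v j₁) (g : Lifts (Over.mk (R.ν j₀)) x₀) (g' : Lifts (Over.mk (R.ν j₀)) y₀)
    (hg' : g'.1 = k ≫ g.1) : (R.trans y₀ y₁ h' g').1 = k ≫ (R.trans x₀ x₁ h g).1 := by
  have hk : (k ≫ (R.trans x₀ x₁ h g).1) ≫ R.ν j₁ = y₁ :=
    (Category.assoc _ _ _).trans ((congrArg (k ≫ ·) (R.trans x₀ x₁ h g).2).trans hy₁)
  suffices H : R.trans y₀ y₁ h' g' = ⟨k ≫ (R.trans x₀ x₁ h g).1, hk⟩ from congrArg Subtype.val H
  apply (R.equiv y₁).injective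
  rw [R.trans_spec]
  refine Elt.ext' fun T'' i z r hr => ?_
  have hr' : z ≫ f i = r ≫ y₀ ≫ v j₀ := hr.trans (congrArg (r ≫ ·) h'.symm)
  have e₀ : z ≫ f i = (r ≫ g'.1) ≫ R.ν j₀ ≫ v j₀ :=
    hr'.trans ((congrArg (fun q => r ≫ q ≫ v j₀) g'.2.symm).trans (by simp only [Category.assoc, Over.mk_hom]))
  have e₁ : z ≫ f i = (r ≫ k ≫ (R.trans x₀ x₁ h g).1) ≫ R.ν j₁ ≫ v j₁ :=
    hr.trans ((congrArg (fun q => r ≫ q ≫ v j₁) hk.symm).trans (by simp only [Category.assoc]))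
  have e₀' : z ≫ f i = ((r ≫ k) ≫ g.1) ≫ R.ν j₀ ≫ v j₀ :=
    e₀.trans (congrArg (fun q => q ≫ R.ν j₀ ≫ v j₀) ((congrArg (r ≫ ·) hg').trans (Category.assoc _ _ _).symm))
  have e₁' : z ≫ f i = ((r ≫ k) ≫ (R.trans x₀ x₁ h g).1) ≫ R.ν j₁ ≫ v j₁ :=
    e₁.trans (congrArg (fun q => q ≫ R.ν j₁ ≫ v j₁) (Category.assoc _ _ _).symm)
  refine (Elt.castEq_app h' _ z r hr hr').trans ((R.equiv_app y₀ g' z r hr' e₀).trans ?_)
  refine Eq.trans ?_ (R.equiv_app y₁ ⟨k ≫ (R.trans x₀ x₁ h g).1, hk⟩ z r hr e₁).symm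
  refine ((R.n j₀).app_congr rfl ((congrArg (r ≫ ·) hg').trans (Category.assoc _ _ _).symm) e₀ e₀').trans ?_
  exact (R.trans_app x₀ x₁ h g z (r ≫ k) e₀' e₁').symm.trans ((R.n j₁).app_congr rfl (Category.assoc _ _ _) e₁' e₁)

/-- The descent datum of the representing objects. -/
noncomputable def Reps.dd : SchDDFam v where
  obj j := Over.mk (R.ν j)
  φ := R.trans
  φ_natural T T' k j₀ j₁ x₀ x₁ h y₀ y₁ hy₀ hy₁ h' g g' hg' := R.trans_natural k x₀ x₁ h y₀ y₁ hy₁ h' g g' hg'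
  φ_self T j x g := (R.equiv x).injective ((R.trans_spec x x rfl g).trans (Elt.castEq_refl _))
  φ_comp T j₀ j₁ j₂ x₀ x₁ x₂ h₀₁ h₁₂ g := (R.equiv x₂).injective <| by
    rw [R.trans_spec, R.trans_spec, R.trans_spec, Elt.castEq_trans]

variable {α : ι → κ} {g : ∀ i, X i ⟶ V (α i)} (w : ∀ i, g i ≫ v (α i) = f i)

include w in
lemma pull_pt_cond {T : Scheme.{u}} {i : ι} (x : T ⟶ X i) : (x ≫ g i) ≫ v (α i) = x ≫ f i := by
  rw [Category.assoc, w]

/-- Points of the pulled-back representing object as points of `D`. -/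
noncomputable def Reps.fwd {T : Scheme.{u}} {i : ι} (x : T ⟶ X i) :
    Lifts (Over.mk (R.ν (α i))) (x ≫ g i) ≃ Lifts (D.obj i) x :=
  ((R.equiv (x ≫ g i)).trans (Elt.castEq (pull_pt_cond w x))).trans (Elt.pointEquiv x)

theorem Reps.fwd_val {T : Scheme.{u}} {i : ι} (x : T ⟶ X i) (l : Lifts (Over.mk (R.ν (α i))) (x ≫ g i))
    (h : x ≫ f i = l.1 ≫ R.ν (α i) ≫ v (α i)) : (R.fwd w x l).1 = ((R.n (α i)).app x l.1 h).1 := by
  have e₁ : x ≫ f i = 𝟙 T ≫ (x ≫ g i) ≫ v (α i) := ((Category.id_comp _).trans (pull_pt_cond w x)).symm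
  have e₂ : x ≫ f i = (𝟙 T ≫ l.1) ≫ R.ν (α i) ≫ v (α i) :=
    h.trans (congrArg (fun q => q ≫ R.ν (α i) ≫ v (α i)) (Category.id_comp l.1).symm)
  exact (Elt.castEq_app (pull_pt_cond w x) _ x (𝟙 T) _ e₁).trans
    ((R.equiv_app (x ≫ g i) l x (𝟙 T) e₁ e₂).trans ((R.n (α i)).app_congr rfl (Category.id_comp l.1) _ _))

include w in
theorem Reps.pt_cond {T : Scheme.{u}} {i : ι} (x : T ⟶ X i) (l : Lifts (Over.mk (R.ν (α i))) (x ≫ g i)) :
    x ≫ f i = l.1 ≫ R.ν (α i) ≫ v (α i) :=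
  ((congrArg (· ≫ v (α i)) l.2).trans (pull_pt_cond w x)).symm.trans (Category.assoc _ _ _)

theorem Reps.fwd_natural {T T' : Scheme.{u}} (k : T' ⟶ T) {i : ι} (x : T ⟶ X i) (x' : T' ⟶ X i) (hx : k ≫ x = x')
    (l : Lifts (Over.mk (R.ν (α i))) (x ≫ g i)) (l' : Lifts (Over.mk (R.ν (α i))) (x' ≫ g i))
    (hl : l'.1 = k ≫ l.1) : (R.fwd w x' l').1 = k ≫ (R.fwd w x l).1 := by
  subst hx
  have e : (k ≫ x) ≫ f i = (k ≫ l.1) ≫ R.ν (α i) ≫ v (α i) := by
    rw [Category.assoc, R.pt_cond w x l, Category.assoc k]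
  rw [R.fwd_val w _ l' (R.pt_cond w _ l'), R.fwd_val w x l (R.pt_cond w x l)]
  exact ((R.n (α i)).app_congr rfl hl _ e).trans ((R.n (α i)).app_natural k x l.1 _ e)

/-- Component of the comparison with `D`. -/
noncomputable def Reps.compApp (i : ι) : Over.mk (pullback.snd (R.ν (α i)) (g i)) ≅ D.obj i :=
  Over.isoMk
    { hom := (R.fwd w (pullback.snd (R.ν (α i)) (g i)) ⟨pullback.fst _ _, pullback.condition⟩).1
      inv := pullback.lift ((R.fwd w (D.obj i).hom).symm ⟨𝟙 _, Category.id_comp _⟩).1 (D.obj i).hom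
        ((R.fwd w (D.obj i).hom).symm ⟨𝟙 _, Category.id_comp _⟩).2
      hom_inv_id := by
        set P := R.fwd w (pullback.snd (R.ν (α i)) (g i)) ⟨pullback.fst _ _, pullback.condition⟩ with hP
        apply pullback.hom_ext
        · rw [Category.assoc, pullback.lift_fst, Category.id_comp]
          set L := (R.fwd w (D.obj i).hom).symm ⟨𝟙 _, Category.id_comp _⟩ with hL
          let L' : Lifts (Over.mk (R.ν (α i))) (pullback.snd (R.ν (α i)) (g i) ≫ g i) := ⟨P.1 ≫ L.1,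
            (Category.assoc _ _ _).trans ((congrArg (P.1 ≫ ·) L.2).trans
              ((Category.assoc _ _ _).symm.trans (congrArg (· ≫ g i) P.2)))⟩
          refine congrArg Subtype.val (show L' = ⟨pullback.fst _ _, pullback.condition⟩ from
            (R.fwd w (pullback.snd (R.ν (α i)) (g i))).injective ?_)
          refine Subtype.ext ((R.fwd_natural w P.1 _ _ P.2 L L' rfl).trans ?_)
          rw [hL, Equiv.apply_symm_apply]
          exact Category.comp_id _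
        · rw [Category.assoc, pullback.lift_snd, Category.id_comp]
          exact P.2
      inv_hom_id := by
        set L := (R.fwd w (D.obj i).hom).symm ⟨𝟙 _, Category.id_comp _⟩ with hL
        refine (R.fwd_natural w _ (pullback.snd (R.ν (α i)) (g i)) (D.obj i).hom (pullback.lift_snd _ _ L.2)
          ⟨pullback.fst _ _, pullback.condition⟩ L (pullback.lift_fst _ _ L.2).symm).symm.trans ?_
        rw [hL, Equiv.apply_symm_apply] }
    (R.fwd w (pullback.snd (R.ν (α i)) (g i)) ⟨pullback.fst _ _, pullback.condition⟩).2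

theorem Reps.compApp_hom (i : ι)
    (h : pullback.snd (R.ν (α i)) (g i) ≫ f i = pullback.fst (R.ν (α i)) (g i) ≫ R.ν (α i) ≫ v (α i)) :
    (R.compApp w i).hom.left =
      ((R.n (α i)).app (pullback.snd (R.ν (α i)) (g i)) (pullback.fst (R.ν (α i)) (g i)) h).1 :=
  R.fwd_val w _ ⟨pullback.fst _ _, pullback.condition⟩ h

/-- Pulling the datum of representing objects back gives `D`. -/
noncomputable def Reps.compIso :
    pullDDFamObj (f := v) (f' := f) (α := α) (p := 𝟙 S) (p' := g) (fun i => (w i).trans (Category.comp_id (f i)).symm)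
      R.dd ≅ D :=
  DDPull.isoMk (D := pullDDFamObj (f := v) (f' := f) (α := α) (p := 𝟙 S) (p' := g)
      (fun i => (w i).trans (Category.comp_id (f i)).symm) R.dd) (fun i => R.compApp w i)
    fun T i j x₀ x₁ h l l' hl => by
      have hc : ∀ k, pullback.snd (R.ν (α k)) (g k) ≫ f k = pullback.fst (R.ν (α k)) (g k) ≫ R.ν (α k) ≫ v (α k) :=
        fun k => by rw [← w k, pullback.condition_assoc]
      have pt : ∀ {k : ι} {x : T ⟶ X k} (z : T ⟶ pullback (R.ν (α k)) (g k)), z ≫ pullback.snd _ _ = x →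
          x ≫ f k = (z ≫ pullback.fst (R.ν (α k)) (g k)) ≫ R.ν (α k) ≫ v (α k) := fun {k x} z hz => by
        rw [← hz, Category.assoc, hc, ← Category.assoc z]
      have app_pt : ∀ {k : ι} {x : T ⟶ X k} (z : T ⟶ pullback (R.ν (α k)) (g k)) (hz : z ≫ pullback.snd _ _ = x),
          z ≫ (R.compApp w k).hom.left = ((R.n (α k)).app x (z ≫ pullback.fst _ _) (pt z hz)).1 := fun {k x} z hz => by
        rw [R.compApp_hom w k (hc k), ← (R.n (α k)).app_natural z _ _ (hc k) (by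
          rw [Category.assoc, hc, ← Category.assoc z])]
        exact (R.n (α k)).app_congr hz rfl _ _
      let g₀ : Lifts (Over.mk (R.ν (α i))) (x₀ ≫ g i) := liftsPullbackEquiv (Over.mk (R.ν (α i))) (g i) x₀ l
      let g₁ := R.trans (x₀ ≫ g i) (x₁ ≫ g j) (pull_compat (fun i => (w i).trans (Category.comp_id (f i)).symm) x₀ x₁ h) g₀
      have hl₁ : x₁ ≫ f j = g₁.1 ≫ R.ν (α j) ≫ v (α j) := by
        rw [← Category.assoc, show g₁.1 ≫ R.ν (α j) = x₁ ≫ g j from g₁.2, Category.assoc, w]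
      have hl₀ : x₁ ≫ f j = g₀.1 ≫ R.ν (α i) ≫ v (α i) := by
        rw [← Category.assoc, show g₀.1 ≫ R.ν (α i) = x₀ ≫ g i from g₀.2, Category.assoc, w, h]
      set z := ((pullDDFamObj (f := v) (f' := f) (α := α) (p := 𝟙 S) (p' := g)
        (fun i => (w i).trans (Category.comp_id (f i)).symm) R.dd).φ x₀ x₁ h l) with hz
      have hz₁ : z.1 ≫ pullback.fst (R.ν (α j)) (g j) = g₁.1 := pullback.lift_fst _ _ _
      rw [app_pt z.1 z.2, (R.n (α j)).app_congr rfl hz₁ (pt z.1 z.2) hl₁]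
      have e := R.trans_app (x₀ ≫ g i) (x₁ ≫ g j) _ g₀ x₁ (𝟙 T) (by rw [Category.id_comp]; exact hl₀)
        (by rw [Category.id_comp]; exact hl₁)
      rw [(R.n (α j)).app_congr rfl (Category.id_comp g₁.1).symm hl₁ (by rw [Category.id_comp]; exact hl₁)]
      refine Eq.trans ?_ e.symm
      rw [(R.n (α i)).app_congr rfl (Category.id_comp g₀.1) (by rw [Category.id_comp]; exact hl₀) hl₀,
        ← (R.n (α i)).φ_app x₀ x₁ g₀.1 (pt l.1 l.2) hl₀ h]
      exact φ_congr D rfl rfl _ _ (hl.trans (app_pt l.1 l.2))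

end reps

end GrothLib.SchEffective
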